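import Cfsg.Agent.Lib.KInf.Element
import Cfsg.Agent.Lib.ConjFunctor.EngelHom
import Cfsg.Agent.Lib.ConjFunctor.Kernel

/-!
A weak critical subgroup, and the consequences of Glauberman's element theorem for chief factors
below `O_p(G)`.
-/

set_option autoImplicit false
set_option linter.style.haveILetI false

open scoped commutatorElement

namespace CfsgLib.KInf

open CfsgLib.ConjFunctor

universe u

/-- A finite p-group has a characteristic subgroup `C` with `[C, P] ≤ Z(C)` and `C_P(C) ≤ C`. -/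
theorem exists_weak_critical {P : Type*} [Group P] [Finite P] {p : ℕ} [Fact p.Prime]
    (hP : IsPGroup p P) :
    ∃ C : Subgroup P, C.Characteristic ∧ ⁅C, (⊤ : Subgroup P)⁆ ≤ cenIn C ∧
      Subgroup.centralizer (C : Set P) ≤ C := by
  classical
  haveI := hP.isNilpotent
  obtain ⟨D, hD⟩ := (Set.toFinite {D : Subgroup P | D.Characteristic ∧ IsMulCommutative ↥D}).exists_maximal
    ⟨⊥, inferInstance, inferInstance⟩
  haveI := hD.1.1
  let C : Subgroup P :=
    { carrier := {x | x ∈ Subgroup.centralizer (D : Set P) ∧ ∀ y : P, ⁅x, y⁆ ∈ D}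
      one_mem' := ⟨one_mem _, fun y => by rw [commutatorElement_one_left]; exact one_mem _⟩
      mul_mem' := fun {a b} ha hb => ⟨mul_mem ha.1 hb.1, fun y => by
        have e : ⁅a * b, y⁆ = a * ⁅b, y⁆ * a⁻¹ * ⁅a, y⁆ := by
          simp only [commutatorElement_def]; group
        rw [e]
        exact mul_mem (Subgroup.Normal.conj_mem inferInstance _ (hb.2 y) a) (ha.2 y)⟩
      inv_mem' := fun {a} ha => ⟨inv_mem ha.1, fun y => by
        have e : ⁅a⁻¹, y⁆ = a⁻¹ * ⁅a, y⁆⁻¹ * (a⁻¹)⁻¹ := by
          simp only [commutatorElement_def]; group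
        rw [e]
        exact Subgroup.Normal.conj_mem inferInstance _ (inv_mem (ha.2 y)) _⟩ }
  have hCchar : C.Characteristic := by
    rw [Subgroup.characteristic_iff_map_le]
    rintro φ _ ⟨x, hx, rfl⟩
    have hφ : ∀ d, d ∈ D → φ d ∈ D := fun d hd => by
      have := Subgroup.characteristic_iff_map_le.1 hD.1.1 φ
      exact this ⟨d, hd, rfl⟩
    have hφ' : ∀ d, d ∈ D → φ.symm d ∈ D := fun d hd => by
      have := Subgroup.characteristic_iff_map_le.1 hD.1.1 φ.symm
      exact this ⟨d, hd, rfl⟩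
    refine ⟨Subgroup.mem_centralizer_iff.2 fun d hd => ?_, fun y => ?_⟩
    · have := congrArg φ (Subgroup.mem_centralizer_iff.1 hx.1 _ (hφ' d hd))
      rwa [map_mul, map_mul, MulEquiv.apply_symm_apply] at this
    · have := hφ _ (hx.2 (φ.symm y))
      rwa [map_commutatorElement, MulEquiv.apply_symm_apply] at this
  haveI := hCchar
  have hDC : D ≤ C := fun d hd => ⟨Subgroup.le_centralizer_iff_isMulCommutative.2 hD.1.2 hd,
    fun y => Subgroup.commutator_le_left D ⊤ (Subgroup.commutator_mem_commutator hd (Subgroup.mem_top y))⟩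
  have hDZ : D ≤ cenIn C := le_inf hDC (Subgroup.le_centralizer_iff.1 fun x hx => hx.1)
  refine ⟨C, hCchar, le_trans (Subgroup.commutator_le.2 fun x hx y _ => hx.2 y) hDZ, ?_⟩
  set K := Subgroup.centralizer (C : Set P)
  have hKC : K ⊓ C ≤ D := by
    have hchar : (cenIn C).Characteristic := by
      rw [Subgroup.characteristic_iff_map_le]
      intro φ
      show (cenIn C).map φ.toMonoidHom ≤ cenIn C
      rw [← centralizer_map_inf φ.injective, Subgroup.characteristic_iff_map_eq.1 hCchar φ]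
    have hcomm : IsMulCommutative ↥(cenIn C) := Subgroup.le_centralizer_iff_isMulCommutative.1
      (le_trans inf_le_right (Subgroup.centralizer_le (SetLike.coe_subset_coe.2 inf_le_left)))
    exact (inf_comm K C).le.trans (hD.2 ⟨hchar, hcomm⟩ hDZ)
  by_contra hle
  obtain ⟨c, hc, hcC⟩ := SetLike.not_le_iff_exists.mp hle
  obtain ⟨N, hN⟩ := Group.IsNilpotent.nilpotent' (G := P)
  have hex : ∃ n, ∃ x ∈ K, x ∉ D ∧ x ∈ Subgroup.upperCentralSeries P n :=
    ⟨N, c, hc, fun h => hcC (hDC h), by rw [hN]; exact Subgroup.mem_top _⟩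
  obtain ⟨x, hxK, hxD, hx⟩ := Nat.find_spec hex
  obtain ⟨k, hk⟩ : ∃ k, Nat.find hex = k + 1 := by
    refine Nat.exists_eq_succ_of_ne_zero fun h0 => hxD ?_
    rw [h0, Subgroup.upperCentralSeries_zero, Subgroup.mem_bot] at hx
    rw [hx]; exact one_mem _
  rw [hk, Subgroup.mem_upperCentralSeries_succ_iff] at hx
  have hxC : x ∈ C := by
    refine ⟨(Subgroup.centralizer_le fun d hd => hDC hd) hxK, fun y => ?_⟩
    by_contra h5
    haveI : K.Normal := Subgroup.normal_centralizer
    refine Nat.find_min hex (m := k) (by omega) ⟨_, ?_, h5, by rw [commutatorElement_def]; exact hx y⟩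
    exact Subgroup.commutator_le_left K ⊤
      (Subgroup.commutator_mem_commutator hxK (Subgroup.mem_top y))
  exact hxD (hKC ⟨hxK, hxC⟩)

variable {G : Type u} [Group G] [Finite G] {p : ℕ} [Fact p.Prime]

theorem exists_critical_in_pCore :
    ∃ A : Subgroup G, A.Normal ∧ A ≤ Cfsg.pCore p G ∧
      ⁅A, A⁆ ≤ Subgroup.centralizer (A : Set G) ∧ ⁅Cfsg.pCore p G, A⁆ ≤ cenIn A ∧
      Cfsg.pCore p G ⊓ Subgroup.centralizer (A : Set G) ≤ A ∧
      ∀ x : G, (orderOf x).Coprime p → x ∈ Subgroup.centralizer (A : Set G) →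
        x ∈ Subgroup.centralizer (Cfsg.pCore p G : Set G) := by
  set T := Cfsg.pCore p G
  have hTn : T.Normal := CfsgLib.Solvable.pCore_normal p G
  have hTp : IsPGroup p ↥T := CfsgLib.Solvable.pCore_isPGroup p G
  obtain ⟨C, hC, h1, h2⟩ := exists_weak_critical hTp
  haveI := hC
  set A := C.map T.subtype with hA
  have hAn : A.Normal := inferInstance
  have hAT : A ≤ T := Subgroup.map_subtype_le C
  have hTA : ⁅T, A⁆ ≤ cenIn A := by
    rw [Subgroup.commutator_comm, hA, centralizer_map_inf T.subtype_injective]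
    have : ⁅C.map T.subtype, T⁆ = ⁅C, (⊤ : Subgroup ↥T)⁆.map T.subtype := by
      rw [Subgroup.map_commutator, ← MonoidHom.range_eq_map, Subgroup.range_subtype]
    rw [this]
    exact Subgroup.map_mono h1
  have hcen : T ⊓ Subgroup.centralizer (A : Set G) ≤ A := by
    rintro t ⟨ht, htc⟩
    refine ⟨⟨t, ht⟩, h2 (Subgroup.mem_centralizer_iff.2 fun c hc => Subtype.ext ?_), rfl⟩
    exact Subgroup.mem_centralizer_iff.1 htc c ⟨c, hc, rfl⟩
  refine ⟨A, hAn, hAT,
    le_trans (le_trans (Subgroup.commutator_mono hAT le_rfl) hTA) inf_le_right, hTA, hcen, ?_⟩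
  intro x hcop hx
  rw [Subgroup.mem_centralizer_iff]
  intro t ht
  have hfix : ∀ a ∈ A, x * a * x⁻¹ = a := fun a ha => by
    rw [← Subgroup.mem_centralizer_iff.1 hx a ha, mul_inv_cancel_right]
  set d := x * t * x⁻¹ * t⁻¹ with hd
  have hdT : d ∈ T := mul_mem (hTn.conj_mem t ht x) (inv_mem ht)
  have hdC : d ∈ Subgroup.centralizer (A : Set G) := by
    rw [Subgroup.mem_centralizer_iff]
    intro a ha
    have h : x * (t⁻¹ * a * t) * x⁻¹ = t⁻¹ * a * t := hfix _ (by simpa using hAn.conj_mem a ha t⁻¹)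
    have h' : (x * t⁻¹ * x⁻¹) * a * (x * t * x⁻¹) = t⁻¹ * a * t := by
      conv_lhs => rw [← hfix a ha]
      rw [← h]; group
    calc a * d = (x * t * x⁻¹) * ((x * t⁻¹ * x⁻¹) * a * (x * t * x⁻¹)) * t⁻¹ := by rw [hd]; group
      _ = d * a := by rw [h', hd]; group
  have hxd : Commute x d := (Subgroup.mem_centralizer_iff.1 hx d (hcen ⟨hdT, hdC⟩)).symm
  have he : x * t * x⁻¹ = d * t := by rw [hd]; group
  have hd1 := eq_one_of_conj_eq_mul he hxd (orderOf_coprime_of_isPGroup hTp hdT hcop)
  calc t * x = (x * t * x⁻¹ * t⁻¹) * t * x := by rw [← hd, hd1, one_mul]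
    _ = x * t := by group

end CfsgLib.KInf

namespace CfsgLib.KInf

open CfsgLib.ConjFunctor
open scoped IsMulCommutative

universe w

variable {G : Type w} [Group G] [Finite G] {p : ℕ} [Fact p.Prime]

/-- If a K-infinity subgroup is not normal, some element outside `O_p(G)` satisfies the Engel
condition of index 4 on chief factors below `O_p(G)` and is quadratic on its centre. -/
theorem exists_engel_element (S : Sylow p G)
    (hK : ¬ (Cfsg.inducedFunctor Cfsg.kInfLower (S : Subgroup G)).Normal ∨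
      ¬ (Cfsg.inducedFunctor Cfsg.kInfUpper (S : Subgroup G)).Normal) :
    ∃ g : G, g ∈ (S : Subgroup G) ∧ g ∉ Cfsg.pCore p G ∧
      (∀ U V : Subgroup G, Cfsg.IsChiefFactor U V → U ≤ Cfsg.pCore p G →
        Cfsg.iterCommutator U (Subgroup.zpowers g) 4 ≤ V) ∧
      ⁅⁅Cfsg.pCore p G ⊓ Subgroup.centralizer (Cfsg.pCore p G : Set G), Subgroup.zpowers g⁆,
        Subgroup.zpowers g⁆ = ⊥ ∧
      (Subgroup.centralizer (Cfsg.pCore p G : Set G) ≤ Cfsg.pCore p G →
        ∃ U V : Subgroup G, Cfsg.IsChiefFactor U V ∧ U ≤ Cfsg.pCore p G ∧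
          ⁅⁅U, Subgroup.zpowers g⁆, Subgroup.zpowers g⁆ ≤ V ∧ ¬ ⁅U, Subgroup.zpowers g⁆ ≤ V) := by
  obtain ⟨A, hAn, hAT, hA2, hA3, hA4, hA5⟩ := exists_critical_in_pCore (G := G) (p := p)
  haveI := hAn
  obtain ⟨g, hgS, hgT, hcube, hquad, hfac⟩ := exists_cubic_element S hAT hA2 hA3 hA5 hK
  refine ⟨g, hgS, hgT, fun U V hc hU => ?_, ?_, fun hC => ?_⟩
  · have hZj : ∀ U' V' : Subgroup G, Cfsg.IsChiefFactor U' V' → U' ≤ cenIn A →
        Cfsg.iterCommutator U' (Subgroup.zpowers g) 2 ≤ V' := fun U' V' _ hU' =>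
      le_trans (Subgroup.commutator_mono (Subgroup.commutator_mono hU' le_rfl) le_rfl)
        (hquad.le.trans bot_le)
    have hAi : ∀ U' V' : Subgroup G, Cfsg.IsChiefFactor U' V' → U' ≤ A →
        Cfsg.iterCommutator U' (Subgroup.zpowers g) 3 ≤ V' := by
      intro U' V' hc' hU'
      haveI := hc'.2.1
      haveI := hc'.2.2.1
      haveI : (cenIn A).Normal := by
        rw [← Subgroup.normalizer_eq_top_iff, eq_top_iff]
        exact le_trans (le_of_eq (Subgroup.normalizer_eq_top A).symm) (normalizer_le_normalizer_cenIn A)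
      have hle : Cfsg.iterCommutator U' (Subgroup.zpowers g) 3 ≤ cenIn A :=
        le_trans (Subgroup.commutator_mono (Subgroup.commutator_mono
          (Subgroup.commutator_mono hU' le_rfl) le_rfl) le_rfl) hcube
      have hU3 : Cfsg.iterCommutator U' (Subgroup.zpowers g) 3 ≤ U' :=
        le_trans (Subgroup.commutator_mono (le_trans
          (Subgroup.commutator_mono (Subgroup.commutator_le_left U' _) le_rfl)
          (Subgroup.commutator_le_left U' _)) le_rfl) (Subgroup.commutator_le_left U' _)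
      rcases hc'.2.2.2 (U' ⊓ cenIn A ⊔ V') inferInstance le_sup_right
          (sup_le inf_le_left hc'.1.le) with h | h
      · exact (le_inf hU3 hle).trans (le_sup_left.trans h.le)
      · haveI : IsMulCommutative ↥(secImage U' V') := secImage_comm
          (le_trans (Subgroup.commutator_mono le_rfl (hU'.trans hAT))
            (commutator_chief_le hAT hc' hU'))
        rw [iterCommutator_zpowers_le_iff]
        refine pow_eq_zero_of_le (show 2 ≤ 3 by omega) (AddMonoidHom.ext fun x => ?_)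
        obtain ⟨u, rfl⟩ := secClass_surjective U' V' x
        have hu : (u : G) ∈ U' ⊓ cenIn A ⊔ V' := by rw [h]; exact u.2
        obtain ⟨w, hw, v, hv, he⟩ := (CfsgLib.Solvable.mem_sup_of_le_normalizer
          (Subgroup.le_normalizer_of_normal (H := U' ⊓ cenIn A))).1 hu
        have hcls : secClass U' V' u = secClass U' V' ⟨w, hw.1⟩ := by
          rw [secClass_eq_iff]
          show (u : G)⁻¹ * w ∈ V'
          rw [← he, mul_inv_rev, mul_assoc, inv_mul_cancel, mul_one]
          exact inv_mem hv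
        rw [hcls]
        refine (pow_secClass U' V' g 2 _).trans ((secClass_eq_zero U' V').2 ?_)
        show ⁅g, ⁅g, w⁆⁆ ∈ V'
        have h1 : ⁅g, ⁅g, w⁆⁆ ∈ ⁅⁅cenIn A, Subgroup.zpowers g⁆, Subgroup.zpowers g⁆ := by
          rw [Subgroup.commutator_comm _ (Subgroup.zpowers g)]
          refine Subgroup.commutator_mem_commutator (Subgroup.mem_zpowers g) ?_
          rw [Subgroup.commutator_comm]
          exact Subgroup.commutator_mem_commutator (Subgroup.mem_zpowers g) hw.2
        rw [hquad, Subgroup.mem_bot] at h1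
        rw [h1]; exact one_mem _
    exact engel_of_critical (i := 3) (j := 2) le_rfl hAT hA3 hA4 (by omega) hAi hZj hc hU
  · refine le_bot_iff.1 (le_trans (Subgroup.commutator_mono
      (Subgroup.commutator_mono (le_inf ?_ ?_) le_rfl) le_rfl) hquad.le)
    · exact le_trans (inf_le_inf_left _ (Subgroup.centralizer_le (SetLike.coe_subset_coe.2 hAT))) hA4
    · exact le_trans inf_le_right (Subgroup.centralizer_le (SetLike.coe_subset_coe.2 hAT))
  · obtain ⟨U, V, hc, hUA, h1, h2⟩ := hfac hC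
    exact ⟨U, V, hc, hUA.trans hAT, h1, h2⟩

end CfsgLib.KInf
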