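import Cfsg.Agent.Lib.KInf.Functor
import Cfsg.Agent.Lib.KInf.Critical
import Cfsg.Agent.Lib.ConjFunctor.TransferMain

/-!
# The K-infinity subgroups control transfer for primes at least five
-/

set_option autoImplicit false
set_option linter.style.haveILetI false

namespace CfsgLib.KInf

open CfsgLib.ConjFunctor

universe u

variable {p : ℕ} [Fact p.Prime]

theorem transferInput_kInfLower (hp : 5 ≤ p) (H : Type u) [Group H] [Finite H] :
    TransferInput p ({Cfsg.kInfLower.{u}} : Set (∀ (Q : Type u) [Group Q], Subgroup Q)) H := by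
  refine transferInput_of_engel H fun _ S hn => ?_
  obtain ⟨g, hg, hgP, h4, -⟩ := exists_engel_element S (Or.inl hn)
  refine ⟨g, hg, hgP, fun U V hc hU => ?_⟩
  haveI := hc.2.2.1
  exact iterCommutator_le_of_le (h4 U V hc hU) (by omega)

theorem transferInput_kInfUpper (hp : 5 ≤ p) (H : Type u) [Group H] [Finite H] :
    TransferInput p ({Cfsg.kInfUpper.{u}} : Set (∀ (Q : Type u) [Group Q], Subgroup Q)) H := by
  refine transferInput_of_engel H fun _ S hn => ?_
  obtain ⟨g, hg, hgP, h4, -⟩ := exists_engel_element S (Or.inr hn)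
  refine ⟨g, hg, hgP, fun U V hc hU => ?_⟩
  haveI := hc.2.2.1
  exact iterCommutator_le_of_le (h4 U V hc hU) (by omega)

theorem kInfLower_transfer (hp : 5 ≤ p) {G : Type u} [Group G] [Finite G] (H : Type u) [Group H]
    [Finite H] (hsec : IsSec G H) (S : Sylow p H) :
    Cfsg.ControlsTransferIn p (Cfsg.inducedFunctor (G := H) Cfsg.kInfLower) ⊤ ∧
    (S : Subgroup H) ⊓ commutator H = (S : Subgroup H) ⊓
      ⁅Subgroup.normalizer
          ((Cfsg.inducedFunctor (G := H) Cfsg.kInfLower (S : Subgroup H) : Subgroup H) : Set H),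
        Subgroup.normalizer
          ((Cfsg.inducedFunctor (G := H) Cfsg.kInfLower (S : Subgroup H) : Subgroup H) : Set H)⁆ :=
  controlsTransfer_sections (isCharPFunctor_kInfLower p)
    (fun H _ _ _ => transferInput_kInfLower hp H) H hsec S

theorem kInfUpper_transfer (hp : 5 ≤ p) {G : Type u} [Group G] [Finite G] (H : Type u) [Group H]
    [Finite H] (hsec : IsSec G H) (S : Sylow p H) :
    Cfsg.ControlsTransferIn p (Cfsg.inducedFunctor (G := H) Cfsg.kInfUpper) ⊤ ∧
    (S : Subgroup H) ⊓ commutator H = (S : Subgroup H) ⊓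
      ⁅Subgroup.normalizer
          ((Cfsg.inducedFunctor (G := H) Cfsg.kInfUpper (S : Subgroup H) : Subgroup H) : Set H),
        Subgroup.normalizer
          ((Cfsg.inducedFunctor (G := H) Cfsg.kInfUpper (S : Subgroup H) : Subgroup H) : Set H)⁆ :=
  controlsTransfer_sections (isCharPFunctor_kInfUpper p)
    (fun H _ _ _ => transferInput_kInfUpper hp H) H hsec S

end CfsgLib.KInf
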