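import Cfsg.Prelude.Def_ConjugacyFunctors
import Mathlib.GroupTheory.Nilpotent
import Mathlib.GroupTheory.PGroup
import Mathlib.Order.WellFounded
import Mathlib.Tactic.Group

/-!
The K-sequence and the two K-infinity subgroups of a finite p-group: monotonicity, stabilisation,
self-centralizing maximal members, behaviour under injective homomorphisms, passage to a subgroup
containing the sequence.
-/

set_option autoImplicit false
set_option linter.style.haveILetI false

open scoped commutatorElement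

namespace CfsgLib.KInf

universe u

variable {P : Type*} [Group P]

/-- The centre of a subgroup, inside the ambient group. -/
abbrev cenIn (B : Subgroup P) : Subgroup P := B ⊓ Subgroup.centralizer (B : Set P)

theorem commutator_sup_le {H K Q Z : Subgroup P} (hH : H ≤ Subgroup.normalizer (Z : Set P))
    (hK : K ≤ Subgroup.normalizer (Z : Set P)) (h1 : ⁅H, Q⁆ ≤ Z) (h2 : ⁅K, Q⁆ ≤ Z) :
    ⁅H ⊔ K, Q⁆ ≤ Z := by
  let S : Subgroup P :=
    { carrier := {y | y ∈ Subgroup.normalizer (Z : Set P) ∧ ∀ q ∈ Q, ⁅y, q⁆ ∈ Z}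
      one_mem' := ⟨one_mem _, fun q _ => by rw [commutatorElement_one_left]; exact one_mem _⟩
      mul_mem' := fun {a b} ha hb => ⟨mul_mem ha.1 hb.1, fun q hq => by
        have e : ⁅a * b, q⁆ = a * ⁅b, q⁆ * a⁻¹ * ⁅a, q⁆ := by
          simp only [commutatorElement_def]; group
        rw [e]
        exact mul_mem ((Subgroup.mem_normalizer_iff.mp ha.1 _).mp (hb.2 q hq)) (ha.2 q hq)⟩
      inv_mem' := fun {a} ha => ⟨inv_mem ha.1, fun q hq => by
        have e : ⁅a⁻¹, q⁆ = a⁻¹ * ⁅a, q⁆⁻¹ * (a⁻¹)⁻¹ := by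
          simp only [commutatorElement_def]; group
        rw [e]
        exact (Subgroup.mem_normalizer_iff.mp (inv_mem ha.1) _).mp (inv_mem (ha.2 q hq))⟩ }
  have hHS : H ≤ S := fun y hy => ⟨hH hy, fun q hq => h1 (Subgroup.commutator_mem_commutator hy hq)⟩
  have hKS : K ≤ S := fun y hy => ⟨hK hy, fun q hq => h2 (Subgroup.commutator_mem_commutator hy hq)⟩
  exact Subgroup.commutator_le.mpr fun y hy q hq => ((sup_le hHS hKS) hy).2 q hq

theorem centralizer_sup (H K : Subgroup P) :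
    Subgroup.centralizer ((H ⊔ K : Subgroup P) : Set P) =
      Subgroup.centralizer (H : Set P) ⊓ Subgroup.centralizer (K : Set P) := by
  refine le_antisymm (le_inf (Subgroup.centralizer_le fun x hx => Subgroup.mem_sup_left hx)
    (Subgroup.centralizer_le fun x hx => Subgroup.mem_sup_right hx)) ?_
  rw [Subgroup.le_centralizer_iff, sup_le_iff]
  exact ⟨Subgroup.le_centralizer_iff.mp inf_le_left, Subgroup.le_centralizer_iff.mp inf_le_right⟩

theorem normalizer_le_normalizer_centralizer (B : Subgroup P) :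
    Subgroup.normalizer (B : Set P) ≤
      Subgroup.normalizer (Subgroup.centralizer (B : Set P) : Set P) := by
  have key : ∀ g ∈ Subgroup.normalizer (B : Set P), ∀ c ∈ Subgroup.centralizer (B : Set P),
      g * c * g⁻¹ ∈ Subgroup.centralizer (B : Set P) := by
    intro g hg c hc
    rw [Subgroup.mem_centralizer_iff] at hc ⊢
    intro b hb
    have hb' : g⁻¹ * b * g ∈ B := by
      have := (Subgroup.mem_normalizer_iff.mp (inv_mem hg) b).mp hb
      rwa [inv_inv] at this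
    have h := hc _ hb'
    calc b * (g * c * g⁻¹) = g * (g⁻¹ * b * g * c) * g⁻¹ := by group
      _ = g * (c * (g⁻¹ * b * g)) * g⁻¹ := by rw [h]
      _ = g * c * g⁻¹ * b := by group
  intro g hg
  rw [Subgroup.mem_normalizer_iff]
  intro c
  refine ⟨key g hg c, fun h => ?_⟩
  have := key _ (inv_mem hg) _ h
  simpa [mul_assoc] using this

theorem normalizer_le_normalizer_cenIn (B : Subgroup P) :
    Subgroup.normalizer (B : Set P) ≤ Subgroup.normalizer (cenIn B : Set P) := by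
  intro g hg
  rw [Subgroup.mem_normalizer_iff]
  intro c
  exact and_congr (Subgroup.mem_normalizer_iff.mp hg c)
    (Subgroup.mem_normalizer_iff.mp (normalizer_le_normalizer_centralizer B hg) c)

/-! ### Monotonicity -/

theorem upper_anti {Q Q' : Subgroup P} (h : Q ≤ Q') :
    Cfsg.kUpperStarFamily Q' ⊆ Cfsg.kUpperStarFamily Q :=
  fun _ hB => ⟨hB.1, le_trans (Subgroup.commutator_mono le_rfl h) hB.2⟩

theorem lower_anti {Q Q' : Subgroup P} (h : Q ≤ Q') :
    Cfsg.kLowerStarFamily Q' ⊆ Cfsg.kLowerStarFamily Q :=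
  fun _ hB => ⟨hB.1, le_trans h hB.2.1, fun A hA hAQ => hB.2.2 A hA (le_trans hAQ h)⟩

theorem kSeqOdd_succ (n : ℕ) :
    Cfsg.kSeqOdd P (n + 1) = sSup (Cfsg.kUpperStarFamily (Cfsg.kSeqEven P n)) := rfl

theorem kSeqOdd_zero : Cfsg.kSeqOdd P 0 = ⊤ := rfl

theorem kSeqEven_def (n : ℕ) :
    Cfsg.kSeqEven P n = sSup (Cfsg.kLowerStarFamily (Cfsg.kSeqOdd P n)) := rfl

theorem kSeqOdd_succ_le : ∀ n, Cfsg.kSeqOdd P (n + 1) ≤ Cfsg.kSeqOdd P n
  | 0 => le_top
  | n + 1 => sSup_le_sSup (upper_anti (sSup_le_sSup (lower_anti (kSeqOdd_succ_le n))))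

theorem kSeqEven_le_succ (n : ℕ) : Cfsg.kSeqEven P n ≤ Cfsg.kSeqEven P (n + 1) :=
  sSup_le_sSup (lower_anti (kSeqOdd_succ_le n))

theorem kSeqOdd_antitone : Antitone (Cfsg.kSeqOdd P) :=
  antitone_nat_of_succ_le kSeqOdd_succ_le

theorem kSeqEven_monotone : Monotone (Cfsg.kSeqEven P) :=
  monotone_nat_of_le_succ kSeqEven_le_succ

theorem exists_stable [Finite P] :
    ∃ n : ℕ, ∀ m : ℕ, n ≤ m →
      Cfsg.kSeqOdd P m = Cfsg.kSeqOdd P n ∧ Cfsg.kSeqEven P m = Cfsg.kSeqEven P n := by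
  obtain ⟨n, hn⟩ := WellFoundedLT.antitone_chain_condition (kSeqOdd_antitone (P := P))
  refine ⟨n, fun m hm => ?_⟩
  have : Cfsg.kSeqOdd P m = Cfsg.kSeqOdd P n := (hn m hm).symm
  exact ⟨this, by rw [kSeqEven_def, kSeqEven_def, this]⟩

theorem exists_kInf_eq (P : Type u) [Group P] [Finite P] :
    ∃ n : ℕ, ∀ m : ℕ, n ≤ m →
      Cfsg.kSeqEven P m = Cfsg.kInfLower P ∧ Cfsg.kSeqOdd P m = Cfsg.kInfUpper P := by
  obtain ⟨n, hn⟩ := exists_stable (P := P)
  refine ⟨n, fun m hm => ⟨le_antisymm (le_iSup (Cfsg.kSeqEven P) m) (iSup_le fun k => ?_),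
    le_antisymm (le_iInf fun k => ?_) (iInf_le (Cfsg.kSeqOdd P) m)⟩⟩
  · rcases le_total k m with h | h
    · exact kSeqEven_monotone h
    · rw [(hn m hm).2, (hn k (le_trans hm h)).2]
  · rcases le_total k m with h | h
    · exact kSeqOdd_antitone h
    · rw [(hn m hm).1, (hn k (le_trans hm h)).1]

/-! ### Maximal members are self-centralizing -/

theorem classTwo_bot : (⊥ : Subgroup P) ∈ Cfsg.classTwoSubgroups P := by
  show ⁅(⊥ : Subgroup P), (⊥ : Subgroup P)⁆ ≤ _
  rw [Subgroup.commutator_bot_left]; exact bot_le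

theorem lower_bot (Q : Subgroup P) : (⊥ : Subgroup P) ∈ Cfsg.kLowerStarFamily Q := by
  refine ⟨classTwo_bot, ?_, fun A _ _ _ _ _ => ?_⟩
  · exact Subgroup.le_normalizer_of_normal
  · rw [Subgroup.commutator_bot_left]; exact bot_le

theorem upper_bot (Q : Subgroup P) : (⊥ : Subgroup P) ∈ Cfsg.kUpperStarFamily Q := by
  refine ⟨classTwo_bot, ?_⟩
  rw [Subgroup.commutator_bot_left]; exact bot_le

/-- An element outside `B`, centralizing `B`, whose commutators with `Q` lie in the centre of `B`. -/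
theorem exists_central_mod {p : ℕ} [Fact p.Prime] [Finite P] (hP : IsPGroup p P) {B Q : Subgroup P}
    (hQ : Q ≤ Subgroup.normalizer (B : Set P)) (hc : ¬ Subgroup.centralizer (B : Set P) ≤ B) :
    ∃ x ∈ Subgroup.centralizer (B : Set P), x ∉ B ∧ ⁅Subgroup.zpowers x, Q⁆ ≤ cenIn B := by
  classical
  haveI := hP.isNilpotent
  obtain ⟨c, hcC, hcB⟩ := SetLike.not_le_iff_exists.mp hc
  obtain ⟨N, hN⟩ := Group.IsNilpotent.nilpotent' (G := P)
  have hex : ∃ n, ∃ x ∈ Subgroup.centralizer (B : Set P),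
      x ∉ B ∧ x ∈ Subgroup.upperCentralSeries P n :=
    ⟨N, c, hcC, hcB, by rw [hN]; exact Subgroup.mem_top _⟩
  obtain ⟨x, hxC, hxB, hx⟩ := Nat.find_spec hex
  obtain ⟨k, hk⟩ : ∃ k, Nat.find hex = k + 1 := by
    refine Nat.exists_eq_succ_of_ne_zero fun h0 => hxB ?_
    rw [h0, Subgroup.upperCentralSeries_zero, Subgroup.mem_bot] at hx
    rw [hx]; exact one_mem _
  rw [hk, Subgroup.mem_upperCentralSeries_succ_iff] at hx
  have key : ∀ q ∈ Q, ⁅x, q⁆ ∈ cenIn B := by
    intro q hq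
    have h2 : ⁅x, q⁆ ∈ Subgroup.upperCentralSeries P k := by
      rw [commutatorElement_def]; exact hx q
    have h3 : ⁅x, q⁆ ∈ Subgroup.centralizer (B : Set P) := by
      have h4 : q * x⁻¹ * q⁻¹ ∈ Subgroup.centralizer (B : Set P) :=
        (Subgroup.mem_normalizer_iff.mp (normalizer_le_normalizer_centralizer B (hQ hq)) _).mp
          (inv_mem hxC)
      have e : ⁅x, q⁆ = x * (q * x⁻¹ * q⁻¹) := by simp only [commutatorElement_def]; group
      rw [e]; exact mul_mem hxC h4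
    by_contra h5
    exact Nat.find_min hex (m := k) (by omega) ⟨_, h3, fun h6 => h5 ⟨h6, h3⟩, h2⟩
  refine ⟨x, hxC, hxB, ?_⟩
  let S : Subgroup P :=
    { carrier := {y | y ∈ Subgroup.normalizer (cenIn B : Set P) ∧ ∀ q ∈ Q, ⁅y, q⁆ ∈ cenIn B}
      one_mem' := ⟨one_mem _, fun q _ => by rw [commutatorElement_one_left]; exact one_mem _⟩
      mul_mem' := fun {a b} ha hb => ⟨mul_mem ha.1 hb.1, fun q hq => by
        have e : ⁅a * b, q⁆ = a * ⁅b, q⁆ * a⁻¹ * ⁅a, q⁆ := by
          simp only [commutatorElement_def]; group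
        rw [e]
        exact mul_mem ((Subgroup.mem_normalizer_iff.mp ha.1 _).mp (hb.2 q hq)) (ha.2 q hq)⟩
      inv_mem' := fun {a} ha => ⟨inv_mem ha.1, fun q hq => by
        have e : ⁅a⁻¹, q⁆ = a⁻¹ * ⁅a, q⁆⁻¹ * (a⁻¹)⁻¹ := by
          simp only [commutatorElement_def]; group
        rw [e]
        exact (Subgroup.mem_normalizer_iff.mp (inv_mem ha.1) _).mp (inv_mem (ha.2 q hq))⟩ }
  have hxS : Subgroup.zpowers x ≤ S :=
    Subgroup.zpowers_le.mpr ⟨normalizer_le_normalizer_cenIn B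
      (Subgroup.centralizer_le_normalizer _ hxC), key⟩
  exact Subgroup.commutator_le.mpr fun y hy q hq => (hxS hy).2 q hq

theorem sup_zpowers_facts {B : Subgroup P} (hB : B ∈ Cfsg.classTwoSubgroups P) {x : P}
    (hx : x ∈ Subgroup.centralizer (B : Set P)) :
    (B ⊔ Subgroup.zpowers x) ∈ Cfsg.classTwoSubgroups P ∧
      cenIn B ≤ cenIn (B ⊔ Subgroup.zpowers x) := by
  have hX : Subgroup.zpowers x ≤ Subgroup.centralizer (B : Set P) := Subgroup.zpowers_le.mpr hx
  have hc : cenIn B ≤ cenIn (B ⊔ Subgroup.zpowers x) := by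
    refine le_inf (le_trans inf_le_left le_sup_left) ?_
    rw [centralizer_sup]
    exact le_inf inf_le_right
      (le_trans inf_le_left (Subgroup.le_centralizer_iff.mp hX))
  refine ⟨?_, hc⟩
  have hBB : ⁅B, B⁆ ≤ cenIn B := le_inf (Subgroup.commutator_le_self B) hB
  have hN1 : B ≤ Subgroup.normalizer (cenIn B : Set P) :=
    le_trans Subgroup.le_normalizer (normalizer_le_normalizer_cenIn B)
  have hN2 : Subgroup.zpowers x ≤ Subgroup.normalizer (cenIn B : Set P) :=
    le_trans hX (le_trans (Subgroup.centralizer_le_normalizer _) (normalizer_le_normalizer_cenIn B))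
  have hXB : ⁅Subgroup.zpowers x, B⁆ = ⊥ := Subgroup.commutator_eq_bot_iff_le_centralizer.mpr hX
  have hXX : ⁅Subgroup.zpowers x, Subgroup.zpowers x⁆ = ⊥ :=
    Subgroup.commutator_eq_bot_iff_le_centralizer.mpr
      (Subgroup.le_centralizer_iff_isMulCommutative.mpr inferInstance)
  have h1 : ⁅B ⊔ Subgroup.zpowers x, B⁆ ≤ cenIn B :=
    commutator_sup_le hN1 hN2 hBB (hXB.le.trans bot_le)
  have h2 : ⁅B ⊔ Subgroup.zpowers x, Subgroup.zpowers x⁆ ≤ cenIn B :=
    commutator_sup_le hN1 hN2 (by rw [Subgroup.commutator_comm, hXB]; exact bot_le)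
      (hXX.le.trans bot_le)
  rw [Subgroup.commutator_comm] at h1 h2
  show ⁅B ⊔ Subgroup.zpowers x, B ⊔ Subgroup.zpowers x⁆ ≤ _
  exact le_trans (commutator_sup_le hN1 hN2 h1 h2) (le_trans hc inf_le_right)

theorem upper_extend {p : ℕ} [Fact p.Prime] [Finite P] (hP : IsPGroup p P) {B Q : Subgroup P}
    (hB : B ∈ Cfsg.kUpperStarFamily Q) (hc : ¬ Subgroup.centralizer (B : Set P) ≤ B) :
    ∃ C ∈ Cfsg.kUpperStarFamily Q, B ≤ C ∧ C ≠ B := by
  have hQ : Q ≤ Subgroup.normalizer (B : Set P) :=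
    Subgroup.le_normalizer_iff_commutator_le_left.mpr (le_trans hB.2 inf_le_left)
  obtain ⟨x, hxC, hxB, hxQ⟩ := exists_central_mod hP hQ hc
  obtain ⟨h1, h2⟩ := sup_zpowers_facts hB.1 hxC
  refine ⟨_, ⟨h1, le_trans ?_ h2⟩, le_sup_left,
    fun h => hxB (by rw [← h]; exact Subgroup.mem_sup_right (Subgroup.mem_zpowers x))⟩
  exact commutator_sup_le (le_trans Subgroup.le_normalizer (normalizer_le_normalizer_cenIn B))
    (Subgroup.zpowers_le.mpr (normalizer_le_normalizer_cenIn B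
      (Subgroup.centralizer_le_normalizer _ hxC))) hB.2 hxQ

theorem lower_extend {p : ℕ} [Fact p.Prime] [Finite P] (hP : IsPGroup p P) {B Q : Subgroup P}
    (hB : B ∈ Cfsg.kLowerStarFamily Q) (hc : ¬ Subgroup.centralizer (B : Set P) ≤ B) :
    ∃ C ∈ Cfsg.kLowerStarFamily Q, B ≤ C ∧ C ≠ B := by
  obtain ⟨x, hxC, hxB, hxQ⟩ := exists_central_mod hP hB.2.1 hc
  obtain ⟨h1, h2⟩ := sup_zpowers_facts hB.1 hxC
  have hN2 : Subgroup.zpowers x ≤ Subgroup.normalizer (cenIn B : Set P) :=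
    Subgroup.zpowers_le.mpr (normalizer_le_normalizer_cenIn B
      (Subgroup.centralizer_le_normalizer _ hxC))
  have hN1 : B ≤ Subgroup.normalizer (cenIn B : Set P) :=
    le_trans Subgroup.le_normalizer (normalizer_le_normalizer_cenIn B)
  refine ⟨_, ⟨h1, ?_, ?_⟩, le_sup_left,
    fun h => hxB (by rw [← h]; exact Subgroup.mem_sup_right (Subgroup.mem_zpowers x))⟩
  · intro q hq
    have hq1 := hB.2.1 hq
    rw [Subgroup.mem_normalizer_iff_map_conj_eq, Subgroup.map_sup,
      Subgroup.mem_normalizer_iff_map_conj_eq.mp hq1]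
    have hx' : q * x * q⁻¹ ∈ B ⊔ Subgroup.zpowers x := by
      have h3 : ⁅x, q⁆ ∈ B := (hxQ (Subgroup.commutator_mem_commutator
        (Subgroup.mem_zpowers x) hq)).1
      have e : q * x * q⁻¹ = ⁅x, q⁆⁻¹ * x := by simp only [commutatorElement_def]; group
      rw [e]
      exact mul_mem (Subgroup.mem_sup_left (inv_mem h3))
        (Subgroup.mem_sup_right (Subgroup.mem_zpowers x))
    refine Subgroup.eq_of_le_of_card_ge (sup_le le_sup_left ?_) ?_
    · rw [MonoidHom.map_zpowers]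
      exact Subgroup.zpowers_le.mpr (by simpa using hx')
    · refine le_of_eq ?_
      have h := Subgroup.card_map_of_injective (K := B ⊔ Subgroup.zpowers x)
        (f := ((MulAut.conj q : MulAut P) : P →* P)) (MulAut.conj q).injective
      rwa [Subgroup.map_sup, Subgroup.mem_normalizer_iff_map_conj_eq.mp hq1, eq_comm] at h
  · intro A hA hAQ hAn hA1 hA2
    have hBn : B ≤ Subgroup.normalizer (A : Set P) := le_trans le_sup_left hAn
    have h3 : ⁅B, A⁆ ≤ cenIn B := hB.2.2 A hA hAQ hBn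
      (eq_bot_iff.mpr (le_trans (Subgroup.commutator_mono le_sup_left le_rfl) hA1.le))
      (eq_bot_iff.mpr (le_trans
        (Subgroup.commutator_mono (Subgroup.commutator_mono h2 le_rfl) le_rfl) hA2.le))
    exact le_trans (commutator_sup_le hN1 hN2 h3
      (le_trans (Subgroup.commutator_mono le_rfl hAQ) hxQ)) h2

theorem centralizer_le_sSup_lower {p : ℕ} [Fact p.Prime] [Finite P] (hP : IsPGroup p P)
    (Q : Subgroup P) :
    Subgroup.centralizer ((sSup (Cfsg.kLowerStarFamily Q) : Subgroup P) : Set P) ≤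
      sSup (Cfsg.kLowerStarFamily Q) := by
  obtain ⟨B, hB⟩ := (Set.toFinite (Cfsg.kLowerStarFamily Q)).exists_maximal ⟨⊥, lower_bot Q⟩
  have hB' : Subgroup.centralizer (B : Set P) ≤ B := by
    by_contra hc
    obtain ⟨C, hC, hBC, hne⟩ := lower_extend hP hB.1 hc
    exact hne (le_antisymm (hB.2 hC hBC) hBC)
  exact le_trans (Subgroup.centralizer_le (SetLike.coe_subset_coe.mpr (le_sSup hB.1))) (le_trans hB' (le_sSup hB.1))

theorem centralizer_le_sSup_upper {p : ℕ} [Fact p.Prime] [Finite P] (hP : IsPGroup p P)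
    (Q : Subgroup P) :
    Subgroup.centralizer ((sSup (Cfsg.kUpperStarFamily Q) : Subgroup P) : Set P) ≤
      sSup (Cfsg.kUpperStarFamily Q) := by
  obtain ⟨B, hB⟩ := (Set.toFinite (Cfsg.kUpperStarFamily Q)).exists_maximal ⟨⊥, upper_bot Q⟩
  have hB' : Subgroup.centralizer (B : Set P) ≤ B := by
    by_contra hc
    obtain ⟨C, hC, hBC, hne⟩ := upper_extend hP hB.1 hc
    exact hne (le_antisymm (hB.2 hC hBC) hBC)
  exact le_trans (Subgroup.centralizer_le (SetLike.coe_subset_coe.mpr (le_sSup hB.1))) (le_trans hB' (le_sSup hB.1))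

theorem centralizer_kInfLower_le {p : ℕ} [Fact p.Prime] {P : Type u} [Group P] [Finite P]
    (hP : IsPGroup p P) :
    Subgroup.centralizer (Cfsg.kInfLower P : Set P) ≤ Cfsg.kInfLower P := by
  obtain ⟨n, hn⟩ := exists_kInf_eq P
  rw [← (hn n le_rfl).1, kSeqEven_def]
  exact centralizer_le_sSup_lower hP _

theorem centralizer_kInfUpper_le {p : ℕ} [Fact p.Prime] {P : Type u} [Group P] [Finite P]
    (hP : IsPGroup p P) :
    Subgroup.centralizer (Cfsg.kInfUpper P : Set P) ≤ Cfsg.kInfUpper P := by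
  obtain ⟨n, hn⟩ := exists_kInf_eq P
  rw [← (hn (n + 1) (by omega)).2, kSeqOdd_succ]
  exact centralizer_le_sSup_upper hP _

/-! ### Normal abelian subgroups -/

theorem normal_abelian_mem (A : Subgroup P) [A.Normal] (hA : IsMulCommutative A) :
    A ∈ Cfsg.classTwoSubgroups P ∧
      (∀ Q, A ∈ Cfsg.kLowerStarFamily Q) ∧ ∀ Q, A ∈ Cfsg.kUpperStarFamily Q := by
  have hz : cenIn A = A := inf_eq_left.mpr (Subgroup.le_centralizer_iff_isMulCommutative.mpr hA)
  have h2 : A ∈ Cfsg.classTwoSubgroups P :=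
    le_trans (Subgroup.commutator_le_self A) (Subgroup.le_centralizer_iff_isMulCommutative.mpr hA)
  refine ⟨h2, fun Q => ⟨h2, ?_, fun B _ _ _ _ _ => ?_⟩, fun Q => ⟨h2, ?_⟩⟩
  · exact Subgroup.le_normalizer_of_normal
  · show ⁅A, B⁆ ≤ cenIn A
    rw [hz]; exact Subgroup.commutator_le_left _ _
  · show ⁅A, Q⁆ ≤ cenIn A
    rw [hz]; exact Subgroup.commutator_le_left _ _

end CfsgLib.KInf
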