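import Cfsg.Agent.Lib.KInf.Functor
import Cfsg.Agent.Lib.ConjFunctor.Induced
import Cfsg.Agent.Lib.ConjFunctor.Chief

/-!
Glauberman's theorem on K-infinity: if it is not normal, some element outside `O_p(G)` acts cubically
on a critical subgroup of `O_p(G)`, quadratically on its centre, and quadratically and nontrivially on
some chief factor inside it.
-/

set_option autoImplicit false
set_option linter.style.haveILetI false

open scoped commutatorElement

namespace CfsgLib.KInf

open CfsgLib.ConjFunctor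

universe u

variable {G : Type u} [Group G] [Finite G] {p : ℕ} [Fact p.Prime]

theorem inducedFunctor_kInf_eq_of_le (S T : Subgroup G) (hS : IsPGroup p ↥S) (hTS : T ≤ S)
    (h : ∀ n, (Cfsg.kSeqEven ↥S n).map S.subtype ≤ T ∧
      (Cfsg.kSeqOdd ↥S (n + 1)).map S.subtype ≤ T) :
    Cfsg.inducedFunctor Cfsg.kInfLower S = Cfsg.inducedFunctor Cfsg.kInfLower T ∧
      Cfsg.inducedFunctor Cfsg.kInfUpper S = Cfsg.inducedFunctor Cfsg.kInfUpper T := by
  have hr : ∀ n, Cfsg.kSeqEven ↥S n ≤ (T.subgroupOf S).subtype.range ∧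
      Cfsg.kSeqOdd ↥S (n + 1) ≤ (T.subgroupOf S).subtype.range := fun n => by
    rw [Subgroup.range_subtype]
    exact ⟨fun x hx => (h n).1 ⟨x, hx, rfl⟩, fun x hx => (h n).2 ⟨x, hx, rfl⟩⟩
  obtain ⟨h1, h2⟩ := kInfLower_map_eq (T.subgroupOf S).subtype_injective hr
  constructor
  · rw [← inducedFunctor_subgroupOf (isCharPFunctor_kInfLower p) hTS (hS.to_le hTS)]
    show (Cfsg.kInfLower ↥S).map S.subtype =
      ((Cfsg.kInfLower ↥(T.subgroupOf S)).map (T.subgroupOf S).subtype).map S.subtype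
    rw [h1]
  · rw [← inducedFunctor_subgroupOf (isCharPFunctor_kInfUpper p) hTS (hS.to_le hTS)]
    show (Cfsg.kInfUpper ↥S).map S.subtype =
      ((Cfsg.kInfUpper ↥(T.subgroupOf S)).map (T.subgroupOf S).subtype).map S.subtype
    rw [h2]

theorem exists_seq_not_le (S : Sylow p G)
    (hK : ¬ (Cfsg.inducedFunctor Cfsg.kInfLower (S : Subgroup G)).Normal ∨
      ¬ (Cfsg.inducedFunctor Cfsg.kInfUpper (S : Subgroup G)).Normal) :
    ∃ n, ¬ (Cfsg.kSeqEven ↥(S : Subgroup G) n).map (S : Subgroup G).subtype ≤ Cfsg.pCore p G ∨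
      ¬ (Cfsg.kSeqOdd ↥(S : Subgroup G) (n + 1)).map (S : Subgroup G).subtype ≤
          Cfsg.pCore p G := by
  by_contra h
  push Not at h
  obtain ⟨h1, h2⟩ := inducedFunctor_kInf_eq_of_le (S : Subgroup G) (Cfsg.pCore p G) S.isPGroup'
    (CfsgLib.Solvable.pCore_le_sylow S) h
  have hn := CfsgLib.Solvable.pCore_normal p G
  have hp := CfsgLib.Solvable.pCore_isPGroup p G
  rcases hK with hK | hK
  · exact hK (h1 ▸ normal_inducedFunctor_of_normal (isCharPFunctor_kInfLower p) hp hn)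
  · exact hK (h2 ▸ normal_inducedFunctor_of_normal (isCharPFunctor_kInfUpper p) hp hn)

/-- The three configurations in which a subgroup `B` outside `O_p(G)` is found. -/
inductive Config (A B : Subgroup G) : Prop
  | lower (Q : Subgroup G) (hQ : A ≤ Q) (hB : B ∈ Cfsg.kLowerStarFamily Q)
  | upper (Q : Subgroup G) (hQ : A ≤ Q) (hB : B ∈ Cfsg.kUpperStarFamily Q)
  | test (h2 : B ∈ Cfsg.classTwoSubgroups G) (hAB : A ≤ Subgroup.normalizer (B : Set G))
      (h1 : ⁅A, ⁅B, B⁆⁆ = ⊥) (h3 : ⁅⁅cenIn A, B⁆, B⁆ = ⊥)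

theorem exists_config (S : Sylow p G) {A : Subgroup G} [A.Normal] (hAT : A ≤ Cfsg.pCore p G)
    (hA2 : ⁅A, A⁆ ≤ Subgroup.centralizer (A : Set G))
    (hA3 : ⁅Cfsg.pCore p G, A⁆ ≤ cenIn A)
    (hK : ∃ n, ¬ (Cfsg.kSeqEven ↥(S : Subgroup G) n).map (S : Subgroup G).subtype ≤ Cfsg.pCore p G ∨
      ¬ (Cfsg.kSeqOdd ↥(S : Subgroup G) (n + 1)).map (S : Subgroup G).subtype ≤
          Cfsg.pCore p G) :
    ∃ B : Subgroup G, B ≤ (S : Subgroup G) ∧ ¬ B ≤ Cfsg.pCore p G ∧ Config A B := by
  classical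
  set T := Cfsg.pCore p G
  have hAS : A ≤ (S : Subgroup G) := hAT.trans (CfsgLib.Solvable.pCore_le_sylow S)
  have hf := (S : Subgroup G).subtype_injective
  have hA0 : (A.subgroupOf (S : Subgroup G)).map (S : Subgroup G).subtype = A := by
    rw [Subgroup.subgroupOf_map_subtype, inf_eq_left.2 hAS]
  by_cases h0 : A ∈ Cfsg.kLowerStarFamily (S : Subgroup G)
  · have hAe : A ≤ (Cfsg.kSeqEven ↥(S : Subgroup G) 0).map (S : Subgroup G).subtype := by
      rw [← hA0]
      refine Subgroup.map_mono (le_sSup ((lower_map hf _ _).1 ?_))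
      rwa [hA0, kSeqOdd_zero, ← MonoidHom.range_eq_map, Subgroup.range_subtype]
    obtain ⟨m, hm, hmin⟩ : ∃ m, (¬ (Cfsg.kSeqEven ↥(S : Subgroup G) m).map (S : Subgroup G).subtype ≤ T
          ∨ ¬ (Cfsg.kSeqOdd ↥(S : Subgroup G) (m + 1)).map (S : Subgroup G).subtype ≤ T) ∧
        ∀ k < m, (Cfsg.kSeqEven ↥(S : Subgroup G) k).map (S : Subgroup G).subtype ≤ T ∧
          (Cfsg.kSeqOdd ↥(S : Subgroup G) (k + 1)).map (S : Subgroup G).subtype ≤ T := by
      refine ⟨Nat.find hK, Nat.find_spec hK, fun k hk => ?_⟩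
      have := Nat.find_min hK hk
      push Not at this
      exact this
    by_cases hev : (Cfsg.kSeqEven ↥(S : Subgroup G) m).map (S : Subgroup G).subtype ≤ T
    · have hodd := hm.resolve_left (not_not.2 hev)
      rw [kSeqOdd_succ, Subgroup.map_le_iff_le_comap, sSup_le_iff] at hodd
      push Not at hodd
      obtain ⟨B, hB, hBT⟩ := hodd
      refine ⟨B.map (S : Subgroup G).subtype, Subgroup.map_subtype_le B,
        fun h => hBT (Subgroup.map_le_iff_le_comap.1 h), .upper _ ?_ ((upper_map hf _ _).2 hB)⟩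
      exact hAe.trans (Subgroup.map_mono (kSeqEven_monotone (Nat.zero_le m)))
    · rw [kSeqEven_def, Subgroup.map_le_iff_le_comap, sSup_le_iff] at hev
      push Not at hev
      obtain ⟨B, hB, hBT⟩ := hev
      refine ⟨B.map (S : Subgroup G).subtype, Subgroup.map_subtype_le B,
        fun h => hBT (Subgroup.map_le_iff_le_comap.1 h), .lower _ ?_ ((lower_map hf _ _).2 hB)⟩
      cases m with
      | zero => rwa [kSeqOdd_zero, ← MonoidHom.range_eq_map, Subgroup.range_subtype]
      | succ m =>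
        have hmT := (hmin m (Nat.lt_succ_self m)).1
        rw [← hA0, kSeqOdd_succ]
        refine Subgroup.map_mono (le_sSup ((upper_map hf _ _).1 ?_))
        rw [hA0]
        refine ⟨hA2, le_trans (Subgroup.commutator_mono le_rfl hmT) ?_⟩
        rw [Subgroup.commutator_comm]; exact hA3
  · have : ¬ ∀ B ∈ Cfsg.classTwoSubgroups G, B ≤ (S : Subgroup G) →
        A ≤ Subgroup.normalizer (B : Set G) → ⁅A, ⁅B, B⁆⁆ = ⊥ → ⁅⁅cenIn A, B⁆, B⁆ = ⊥ →
          ⁅A, B⁆ ≤ cenIn A := fun h => h0 ⟨hA2, Subgroup.le_normalizer_of_normal, h⟩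
    push Not at this
    obtain ⟨B, hB2, hBS, hAB, h1, h3, hne⟩ := this
    refine ⟨B, hBS, fun hBT => hne ?_, .test hB2 hAB h1 h3⟩
    exact le_trans (Subgroup.commutator_mono le_rfl hBT) (by rw [Subgroup.commutator_comm]; exact hA3)

omit [Finite G] in
theorem exists_mem_not_mem {B T : Subgroup G} (h : ¬ B ≤ T) : ∃ g ∈ B, g ∉ T :=
  SetLike.not_le_iff_exists.mp h

theorem subnormal_sup {C N X : Subgroup G} [N.Normal] [C.Normal]
    (hCX : C ≤ X) (hXN : X ≤ N) (hp : IsPGroup p ↥(N.map (QuotientGroup.mk' C))) :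
    X.IsSubnormal := by
  suffices H : ∀ (k : ℕ) (X : Subgroup G), Nat.card ↥N - Nat.card ↥X ≤ k → C ≤ X → X ≤ N →
      X.IsSubnormal from H _ X le_rfl hCX hXN
  intro k
  induction k with
  | zero =>
    intro X hk _ hX
    have : X = N := Subgroup.eq_of_le_of_card_ge hX (by omega)
    rw [this]; exact Subgroup.Normal.isSubnormal ‹_›
  | succ k ih =>
    intro X hk hC hX
    rcases eq_or_lt_of_le hX with rfl | hlt
    · exact Subgroup.Normal.isSubnormal ‹_›
    set f := QuotientGroup.mk' C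
    have hcomap : ∀ Y : Subgroup G, C ≤ Y → (Y.map f).comap f = Y := fun Y hY => by
      rw [Subgroup.comap_map_eq, QuotientGroup.ker_mk', sup_eq_left.2 hY]
    have hlt' : X.map f < N.map f := lt_of_le_of_ne (Subgroup.map_mono hX) fun h => hlt.ne (by
      rw [← hcomap X hC, h, hcomap N (hC.trans hX)])
    have h1 := lt_inf_normalizer hp hlt'
    obtain ⟨y, hy, hyX⟩ := SetLike.exists_of_lt h1
    obtain ⟨x, hxN, rfl⟩ := hy.1
    have hxn : x ∈ Subgroup.normalizer (X : Set G) := by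
      rw [Subgroup.mem_normalizer_iff]
      intro z
      have := Subgroup.mem_normalizer_iff.1 hy.2 (f z)
      rw [← map_mul, ← map_inv, ← map_mul] at this
      change z ∈ X ↔ x * z * x⁻¹ ∈ X
      rw [← hcomap X hC]
      exact this
    have hXY : X < N ⊓ Subgroup.normalizer (X : Set G) :=
      lt_of_le_of_ne (le_inf hX Subgroup.le_normalizer) fun h => hyX
        ⟨x, by rw [h]; exact ⟨hxN, hxn⟩, rfl⟩
    have hcard := (Subgroup.card_le_of_le hXY.le).lt_of_ne fun h =>
      hXY.ne (Subgroup.eq_of_le_of_card_ge hXY.le h.ge)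
    refine Subgroup.IsSubnormal.step X _ hXY.le (ih _ (by omega) (hC.trans hXY.le) inf_le_left) ?_
    rw [Subgroup.normal_subgroupOf_iff_le_normalizer hXY.le]
    exact inf_le_right

/-- A quadratic action on `U` gives a quadratic action on a chief factor. -/
theorem commutator_zpowers_mono {U U' B : Subgroup G} {g : G} (hU : U ≤ U') (hg : g ∈ B) :
    ⁅⁅U, Subgroup.zpowers g⁆, Subgroup.zpowers g⁆ ≤ ⁅⁅U', B⁆, B⁆ :=
  Subgroup.commutator_mono (Subgroup.commutator_mono hU (Subgroup.zpowers_le.2 hg))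
    (Subgroup.zpowers_le.2 hg)

set_option maxHeartbeats 1000000 in
theorem exists_cubic_element (S : Sylow p G) {A : Subgroup G} [A.Normal]
    (hAT : A ≤ Cfsg.pCore p G)
    (hA2 : ⁅A, A⁆ ≤ Subgroup.centralizer (A : Set G))
    (hA3 : ⁅Cfsg.pCore p G, A⁆ ≤ cenIn A)
    (hA5 : ∀ x : G, (orderOf x).Coprime p → x ∈ Subgroup.centralizer (A : Set G) →
      x ∈ Subgroup.centralizer (Cfsg.pCore p G : Set G))
    (hK : ¬ (Cfsg.inducedFunctor Cfsg.kInfLower (S : Subgroup G)).Normal ∨
      ¬ (Cfsg.inducedFunctor Cfsg.kInfUpper (S : Subgroup G)).Normal) :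
    ∃ g : G, g ∈ (S : Subgroup G) ∧ g ∉ Cfsg.pCore p G ∧
      ⁅⁅⁅A, Subgroup.zpowers g⁆, Subgroup.zpowers g⁆, Subgroup.zpowers g⁆ ≤ cenIn A ∧
      ⁅⁅cenIn A, Subgroup.zpowers g⁆, Subgroup.zpowers g⁆ = ⊥ ∧
      (Subgroup.centralizer (Cfsg.pCore p G : Set G) ≤ Cfsg.pCore p G →
        ∃ U V : Subgroup G, Cfsg.IsChiefFactor U V ∧ U ≤ A ∧
          ⁅⁅U, Subgroup.zpowers g⁆, Subgroup.zpowers g⁆ ≤ V ∧ ¬ ⁅U, Subgroup.zpowers g⁆ ≤ V) := by
  set T := Cfsg.pCore p G with hT
  have hTn := CfsgLib.Solvable.pCore_normal p G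
  have hTp := CfsgLib.Solvable.pCore_isPGroup p G
  have hAp : IsPGroup p ↥A := hTp.to_le hAT
  haveI hZn : (cenIn A).Normal := by
    rw [← Subgroup.normalizer_eq_top_iff, eq_top_iff]
    exact le_trans (le_of_eq (Subgroup.normalizer_eq_top A).symm) (normalizer_le_normalizer_cenIn A)
  have hkerT : Subgroup.centralizer (T : Set G) ≤ T → chiefKernel A ≤ T := by
    intro hC
    refine CfsgLib.Solvable.le_pCore (chiefKernel_normal A) (isPGroup_of_coprime_eq_one ?_)
    intro x hx hcop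
    have hxT := hC (hA5 x hcop (mem_centralizer_of_chiefKernel hAp hx hcop))
    exact orderOf_eq_one_iff.1 (Nat.eq_one_of_dvd_coprimes
      (orderOf_coprime_of_isPGroup hTp hxT hcop) dvd_rfl dvd_rfl)
  have hnontriv : ∀ g, g ∉ T → Subgroup.centralizer (T : Set G) ≤ T →
      ∃ U V : Subgroup G, Cfsg.IsChiefFactor U V ∧ U ≤ A ∧ ¬ ⁅U, Subgroup.zpowers g⁆ ≤ V :=
    fun g hg hC => exists_chief_factor_not_le fun h => hg (hkerT hC h)
  obtain ⟨B, hBS, hBT, hcfg⟩ := exists_config S hAT hA2 hA3 (exists_seq_not_le S hK)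
  -- elements quadratic on all of `A`
  have hquad : ∀ g ∈ B, g ∉ T →
      ⁅⁅A, Subgroup.zpowers g⁆, Subgroup.zpowers g⁆ = ⊥ →
      ∃ g : G, g ∈ (S : Subgroup G) ∧ g ∉ T ∧
      ⁅⁅⁅A, Subgroup.zpowers g⁆, Subgroup.zpowers g⁆, Subgroup.zpowers g⁆ ≤ cenIn A ∧
      ⁅⁅cenIn A, Subgroup.zpowers g⁆, Subgroup.zpowers g⁆ = ⊥ ∧
      (Subgroup.centralizer (T : Set G) ≤ T →
        ∃ U V : Subgroup G, Cfsg.IsChiefFactor U V ∧ U ≤ A ∧
          ⁅⁅U, Subgroup.zpowers g⁆, Subgroup.zpowers g⁆ ≤ V ∧ ¬ ⁅U, Subgroup.zpowers g⁆ ≤ V) := by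
    intro g hg hgT hq
    refine ⟨g, hBS hg, hgT, ?_, ?_, fun hC => ?_⟩
    · rw [hq, Subgroup.commutator_bot_left]; exact bot_le
    · rw [eq_bot_iff, ← hq]
      exact Subgroup.commutator_mono (Subgroup.commutator_mono inf_le_left le_rfl) le_rfl
    · obtain ⟨U, V, hc, hUA, hne⟩ := hnontriv g hgT hC
      refine ⟨U, V, hc, hUA, le_trans ?_ bot_le, hne⟩
      rw [← hq]
      exact Subgroup.commutator_mono (Subgroup.commutator_mono hUA le_rfl) le_rfl
  have hBB : ∀ B : Subgroup G, B ∈ Cfsg.classTwoSubgroups G → ⁅⁅B, B⁆, B⁆ = ⊥ := fun B hB =>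
    Subgroup.commutator_eq_bot_iff_le_centralizer.2 hB
  cases hcfg with
  | upper Q hQ hB =>
    obtain ⟨g, hg, hgT⟩ := exists_mem_not_mem hBT
    refine hquad g hg hgT (le_bot_iff.1 (le_trans (commutator_zpowers_mono le_rfl hg) ?_))
    have h1 : ⁅A, B⁆ ≤ cenIn B := by
      rw [Subgroup.commutator_comm]
      exact le_trans (Subgroup.commutator_mono le_rfl hQ) hB.2
    refine le_trans (Subgroup.commutator_mono h1 le_rfl) (le_of_eq ?_)
    exact Subgroup.commutator_eq_bot_iff_le_centralizer.2 inf_le_right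
  | test hB2 hAB h1 h3 =>
    have hABB : ⁅A, B⁆ ≤ B := Subgroup.le_normalizer_iff_commutator_le_right.1 hAB
    have hABA : ⁅A, B⁆ ≤ A := Subgroup.commutator_le_left A B
    have h2 : ⁅⁅A, B⁆, B⁆ ≤ cenIn A := by
      refine le_inf (le_trans (Subgroup.commutator_mono hABA le_rfl) hABA) ?_
      refine le_trans (Subgroup.commutator_mono hABB le_rfl) ?_
      rw [← Subgroup.commutator_eq_bot_iff_le_centralizer, Subgroup.commutator_comm]
      exact h1
    obtain ⟨g, hg, hgT⟩ := exists_mem_not_mem hBT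
    refine ⟨g, hBS hg, hgT, ?_, ?_, fun hC => ?_⟩
    · exact le_trans (Subgroup.commutator_mono (le_trans (commutator_zpowers_mono le_rfl hg) h2)
        le_rfl) (Subgroup.commutator_le_left _ _)
    · exact le_bot_iff.1 (le_trans (commutator_zpowers_mono le_rfl hg) h3.le)
    · obtain ⟨U, V, hc, hUA, hne⟩ := hnontriv g hgT hC
      refine ⟨U, V, hc, hUA, ?_, hne⟩
      haveI := hc.2.1
      haveI := hc.2.2.1
      have hUU : ⁅⁅U, Subgroup.zpowers g⁆, Subgroup.zpowers g⁆ ≤ U :=
        le_trans (Subgroup.commutator_mono (Subgroup.commutator_le_left U _) le_rfl)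
          (Subgroup.commutator_le_left U _)
      rcases hc.2.2.2 (V ⊔ U ⊓ cenIn A) inferInstance le_sup_left (sup_le hc.1.le inf_le_left) with
        h | h
      · calc _ ≤ U ⊓ cenIn A := le_inf hUU (le_trans (commutator_zpowers_mono hUA hg) h2)
          _ ≤ V := sup_eq_left.1 h
      · have hq : ⁅⁅U ⊓ cenIn A, Subgroup.zpowers g⁆, Subgroup.zpowers g⁆ = ⊥ :=
          le_bot_iff.1 (le_trans (commutator_zpowers_mono inf_le_right hg) h3.le)
        calc ⁅⁅U, Subgroup.zpowers g⁆, Subgroup.zpowers g⁆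
            ≤ ⁅V ⊔ ⁅U ⊓ cenIn A, Subgroup.zpowers g⁆, Subgroup.zpowers g⁆ := by
              refine Subgroup.commutator_mono ?_ le_rfl
              conv_lhs => rw [← h]
              refine commutator_sup_le ?_ ?_ ?_ le_sup_right
              · intro v hv
                exact Subgroup.le_normalizer (Subgroup.mem_sup_left hv)
              · intro z hz
                rw [← cj_eq_self_iff]
                show (V ⊔ _).map _ = _
                rw [Subgroup.map_sup]
                refine congrArg₂ (· ⊔ ·) (cj_eq_self_of_normal z V) (cj_eq_self_iff.2 ?_)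
                exact CfsgLib.Solvable.le_normalizer_commutator_left _ _ hz
              · exact le_trans (Subgroup.commutator_le_left _ _) le_sup_left
          _ ≤ V := commutator_sup_le (by rw [Subgroup.normalizer_eq_top]; exact le_top)
              (by rw [Subgroup.normalizer_eq_top]; exact le_top)
              (Subgroup.commutator_le_left _ _) (hq.le.trans bot_le)
  | lower Q hQ hB =>
    have hB2 := hB.1
    have hABB : ⁅A, B⁆ ≤ B :=
      Subgroup.le_normalizer_iff_commutator_le_right.1 (le_trans hQ hB.2.1)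
    by_cases hZB : cenIn B ≤ T
    swap
    · obtain ⟨g, hg, hgT⟩ := exists_mem_not_mem hZB
      refine hquad g hg.1 hgT (le_bot_iff.1 ?_)
      calc ⁅⁅A, Subgroup.zpowers g⁆, Subgroup.zpowers g⁆ ≤ ⁅B, cenIn B⁆ :=
            Subgroup.commutator_mono (le_trans (Subgroup.commutator_mono le_rfl
              (Subgroup.zpowers_le.2 hg.1)) hABB) (Subgroup.zpowers_le.2 hg)
        _ = ⊥ := by
            rw [Subgroup.commutator_comm]
            exact Subgroup.commutator_eq_bot_iff_le_centralizer.2 inf_le_right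
    have hZA : ⁅⁅cenIn A, B⁆, B⁆ = ⊥ := by
      have hab : IsMulCommutative ↥(cenIn A) := by
        rw [← Subgroup.le_centralizer_iff_isMulCommutative]
        exact le_trans inf_le_right (Subgroup.centralizer_le
          (SetLike.coe_subset_coe.2 inf_le_left))
      obtain ⟨hc2, -, -⟩ := normal_abelian_mem (cenIn A) hab
      have hzz : ⁅cenIn A, cenIn A⁆ = ⊥ := Subgroup.commutator_eq_bot_iff_le_centralizer.2
        (Subgroup.le_centralizer_iff_isMulCommutative.2 hab)
      have h := hB.2.2 (cenIn A) hc2 (inf_le_left.trans hQ) Subgroup.le_normalizer_of_normal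
        (by rw [hzz, Subgroup.commutator_bot_right])
        (le_bot_iff.1 (le_trans
          (Subgroup.commutator_mono (Subgroup.commutator_le_right _ _) le_rfl) hzz.le))
      rw [Subgroup.commutator_comm] at h
      exact le_bot_iff.1 (le_trans (Subgroup.commutator_mono h le_rfl)
        (Subgroup.commutator_eq_bot_iff_le_centralizer.2 inf_le_right).le)
    have hcube : ⁅⁅⁅A, B⁆, B⁆, B⁆ = ⊥ := le_bot_iff.1 (le_trans
      (Subgroup.commutator_mono (Subgroup.commutator_mono hABB le_rfl) le_rfl) (hBB B hB2).le)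
    have hfst : ∀ g ∈ B,
        ⁅⁅⁅A, Subgroup.zpowers g⁆, Subgroup.zpowers g⁆, Subgroup.zpowers g⁆ ≤ cenIn A ∧
        ⁅⁅cenIn A, Subgroup.zpowers g⁆, Subgroup.zpowers g⁆ = ⊥ := fun g hg =>
      ⟨le_trans (Subgroup.commutator_mono (commutator_zpowers_mono le_rfl hg)
        (Subgroup.zpowers_le.2 hg)) (hcube.le.trans bot_le),
       le_bot_iff.1 (le_trans (commutator_zpowers_mono le_rfl hg) hZA.le)⟩
    by_cases hN : B ≤ chiefKernel (cenIn A)
    swap
    · obtain ⟨g, hg, hgN⟩ := exists_mem_not_mem hN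
      have hgT : g ∉ T := fun h => hgN (pCore_le_chiefKernel (inf_le_left.trans hAT) h)
      obtain ⟨h1, h2⟩ := hfst g hg
      refine ⟨g, hBS hg, hgT, h1, h2, fun _ => ?_⟩
      obtain ⟨U, V, hc, hUA, hne⟩ := exists_chief_factor_not_le hgN
      exact ⟨U, V, hc, hUA.trans inf_le_left, le_trans
        (Subgroup.commutator_mono (Subgroup.commutator_mono hUA le_rfl) le_rfl)
        (h2.le.trans bot_le), hne⟩
    obtain ⟨g, hg, hgT⟩ := exists_mem_not_mem hBT
    obtain ⟨h1, h2⟩ := hfst g hg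
    refine ⟨g, hBS hg, hgT, h1, h2, fun hC => ?_⟩
    obtain ⟨U, V, hc, hUA, hne⟩ := hnontriv g hgT hC
    refine ⟨U, V, hc, hUA, le_trans (commutator_zpowers_mono le_rfl hg) ?_, hne⟩
    haveI := hc.2.1
    haveI := hc.2.2.1
    have hUT : U ≤ T := hUA.trans hAT
    have hUU : ⁅U, U⁆ ≤ V :=
      le_trans (Subgroup.commutator_mono le_rfl hUT) (commutator_chief_le (A := A) hAT hc hUA)
    -- elements of `U` whose commutators with `U` are centralized by `B`
    let R : Subgroup G :=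
      { carrier := {x | x ∈ U ∧ ∀ y ∈ U, ⁅x, y⁆ ∈ Subgroup.centralizer (B : Set G)}
        one_mem' := ⟨one_mem _, fun y _ => by rw [commutatorElement_one_left]; exact one_mem _⟩
        mul_mem' := fun {a b} ha hb => ⟨mul_mem ha.1 hb.1, fun y hy => by
          have hc' : Commute a ⁅b, y⁆ := Subgroup.mem_centralizer_iff.1
            (hA2 (Subgroup.commutator_mem_commutator (hUA hb.1) (hUA hy))) a (hUA ha.1)
          have e : ⁅a * b, y⁆ = a * ⁅b, y⁆ * a⁻¹ * ⁅a, y⁆ := by
            simp only [commutatorElement_def]; group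
          rw [e, hc'.eq, mul_inv_cancel_right]
          exact mul_mem (hb.2 y hy) (ha.2 y hy)⟩
        inv_mem' := fun {a} ha => ⟨inv_mem ha.1, fun y hy => by
          have hc0 : Commute a⁻¹ ⁅a, y⁆ := Subgroup.mem_centralizer_iff.1
            (hA2 (Subgroup.commutator_mem_commutator (hUA ha.1) (hUA hy))) _
              (hUA (inv_mem ha.1))
          have hc' : Commute a⁻¹ ⁅a, y⁆⁻¹ := hc0.inv_right
          have e : ⁅a⁻¹, y⁆ = a⁻¹ * ⁅a, y⁆⁻¹ * (a⁻¹)⁻¹ := by
            simp only [commutatorElement_def]; group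
          rw [e, hc'.eq, mul_inv_cancel_right]
          exact inv_mem (ha.2 y hy)⟩ }
    have hRU : R ≤ U := fun x hx => hx.1
    have hRconj : ∀ z : G, (∀ a ∈ U, ∀ b ∈ U, ⁅a, b⁆ ∈ Subgroup.centralizer (B : Set G) →
        z * ⁅a, b⁆ * z⁻¹ = ⁅a, b⁆) → ∀ x ∈ R, z * x * z⁻¹ ∈ R := by
      intro z hz x hx
      refine ⟨Subgroup.Normal.conj_mem ‹_› x hx.1 z, fun y hy => ?_⟩
      have hy' : z⁻¹ * y * z ∈ U := by
        simpa using Subgroup.Normal.conj_mem ‹_› y hy z⁻¹
      have e : ⁅z * x * z⁻¹, y⁆ = z * ⁅x, z⁻¹ * y * z⁆ * z⁻¹ := by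
        simp only [commutatorElement_def]; group
      rw [e, hz x hx.1 _ hy' (hx.2 _ hy')]
      exact hx.2 _ hy'
    set C := Subgroup.centralizer ((cenIn A : Subgroup G) : Set G)
    have hcenU : ∀ a ∈ U, ∀ b ∈ U, ⁅a, b⁆ ∈ cenIn A := fun a ha b hb =>
      ⟨Subgroup.commutator_le_self A (Subgroup.commutator_mem_commutator (hUA ha) (hUA hb)),
        hA2 (Subgroup.commutator_mem_commutator (hUA ha) (hUA hb))⟩
    have hnormR : ∀ z ∈ B ⊔ C, z ∈ Subgroup.normalizer (R : Set G) := by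
      intro z hz
      have key : ∀ w : G, w ∈ B ⊔ C → ∀ a ∈ U, ∀ b ∈ U, ⁅a, b⁆ ∈ Subgroup.centralizer (B : Set G) →
          w * ⁅a, b⁆ * w⁻¹ = ⁅a, b⁆ := by
        intro w hw a ha b hb hab
        have : ⁅a, b⁆ ∈ Subgroup.centralizer ((B ⊔ C : Subgroup G) : Set G) := by
          rw [centralizer_sup]
          exact ⟨hab, Subgroup.mem_centralizer_iff.2 fun c hc' =>
            (Subgroup.mem_centralizer_iff.1 hc' _ (hcenU a ha b hb)).symm⟩
        rw [Subgroup.mem_centralizer_iff.1 this w hw, mul_inv_cancel_right]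
      rw [Subgroup.mem_normalizer_iff]
      intro x
      refine ⟨fun hx => hRconj z (key z hz) x hx, fun hx => ?_⟩
      have := hRconj z⁻¹ (key _ (inv_mem hz)) _ hx
      simpa [mul_assoc] using this
    have hRB : ⁅⁅R, B⁆, B⁆ = ⊥ := by
      have hR2 : R ∈ Cfsg.classTwoSubgroups G := le_trans
        (Subgroup.commutator_mono (hRU.trans hUA) (hRU.trans hUA))
        (le_trans hA2 (Subgroup.centralizer_le fun x hx => hUA (hRU hx)))
      have h1' : ⁅B, ⁅R, R⁆⁆ = ⊥ := by
        rw [Subgroup.commutator_comm, Subgroup.commutator_eq_bot_iff_le_centralizer,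
          Subgroup.commutator_le]
        exact fun a ha b hb => ha.2 b hb.1
      have h2' : ⁅⁅cenIn B, R⁆, R⁆ = ⊥ := by
        refine le_bot_iff.1 (le_trans (Subgroup.commutator_mono
          (le_trans (Subgroup.commutator_mono hZB (hRU.trans hUA)) hA3) (hRU.trans hUA)) ?_)
        exact (Subgroup.commutator_eq_bot_iff_le_centralizer.2 inf_le_right).le
      have h := hB.2.2 R hR2 ((hRU.trans hUA).trans hQ)
        (fun b hb => hnormR b (Subgroup.mem_sup_left hb)) h1' h2'
      rw [Subgroup.commutator_comm R B]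
      exact le_bot_iff.1 (le_trans (Subgroup.commutator_mono h le_rfl)
        (Subgroup.commutator_eq_bot_iff_le_centralizer.2 inf_le_right).le)
    have hUB : ⁅U, B⁆ ≤ U ⊓ B := le_inf (Subgroup.commutator_le_left _ _)
      (le_trans (Subgroup.commutator_mono hUA le_rfl) hABB)
    have hUBB : ⁅⁅U, B⁆, B⁆ ≤ R := by
      rw [Subgroup.commutator_le]
      intro w hw b hb
      have hwU := hUB hw
      have hxU : ⁅w, b⁆ ∈ U :=
        Subgroup.commutator_le_left U B (Subgroup.commutator_mem_commutator hwU.1 hb)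
      have hxB : ⁅w, b⁆ ∈ cenIn B :=
        ⟨Subgroup.commutator_le_self B (Subgroup.commutator_mem_commutator hwU.2 hb),
          hB2 (Subgroup.commutator_mem_commutator hwU.2 hb)⟩
      refine ⟨hxU, fun y hy => Subgroup.mem_centralizer_iff.2 fun b' hb' => ?_⟩
      set x := ⁅w, b⁆
      have hxb : b' * x * b'⁻¹ = x := by
        rw [Subgroup.mem_centralizer_iff.1 hxB.2 b' hb', mul_inv_cancel_right]
      have hcy : b' * y * b'⁻¹ * y⁻¹ ∈ B := by
        have h := Subgroup.commutator_mem_commutator hb' (hUA hy)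
        rw [Subgroup.commutator_comm] at h
        simpa [commutatorElement_def] using hABB h
      have hcU : b' * y * b'⁻¹ * y⁻¹ ∈ U :=
        mul_mem (Subgroup.Normal.conj_mem ‹_› y hy b') (inv_mem hy)
      set c := b' * y * b'⁻¹ * y⁻¹
      have hxc : c * x = x * c := Subgroup.mem_centralizer_iff.1 hxB.2 c hcy
      have hcc : c * ⁅x, y⁆ = ⁅x, y⁆ * c := Subgroup.mem_centralizer_iff.1
        (hA2 (Subgroup.commutator_mem_commutator (hUA hxU) (hUA hy))) c (hUA hcU)
      have e1 : b' * ⁅x, y⁆ * b'⁻¹ = ⁅b' * x * b'⁻¹, c * y⁆ := by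
        simp only [c, commutatorElement_def]; group
      have e2 : ⁅x, c * y⁆ = ⁅x, c⁆ * (c * ⁅x, y⁆ * c⁻¹) := by
        simp only [commutatorElement_def]; group
      rw [hxb, e2, commutatorElement_eq_one_iff_mul_comm.2 hxc.symm, one_mul, hcc,
        mul_inv_cancel_right] at e1
      calc b' * ⁅x, y⁆ = b' * ⁅x, y⁆ * b'⁻¹ * b' := by group
        _ = ⁅x, y⁆ * b' := by rw [e1]
    -- `B ⊔ C` is subnormal
    haveI := chiefKernel_normal (cenIn A)
    have hCN : C ≤ chiefKernel (cenIn A) := fun x hx U' V' hc' hU' u hu => by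
      rw [commutatorElement_eq_one_iff_mul_comm.2 (Subgroup.mem_centralizer_iff.1 hx u (hU' hu))]
      exact one_mem _
    have hsn : (B ⊔ C).IsSubnormal := by
      refine subnormal_sup (p := p) (C := C) (N := chiefKernel (cenIn A)) le_sup_right (sup_le hN hCN)
        (isPGroup_of_coprime_eq_one ?_)
      rintro _ ⟨x, hx, rfl⟩ hcop
      have hne : orderOf x ≠ 0 := (orderOf_pos x).ne'
      obtain ⟨k, m, hm, hxo⟩ := Nat.exists_eq_pow_mul_and_not_dvd hne p (Fact.out : p.Prime).ne_one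
      have h1 : (orderOf (x ^ p ^ k)).Coprime p := by
        rw [orderOf_pow' _ (pow_ne_zero _ (Fact.out : p.Prime).ne_zero), hxo,
          Nat.gcd_eq_right (dvd_mul_right _ _),
          Nat.mul_div_cancel_left _ (pow_pos (Fact.out : p.Prime).pos _)]
        exact Nat.coprime_comm.1 (((Fact.out : p.Prime).coprime_iff_not_dvd).2 hm)
      have h2 := mem_centralizer_of_chiefKernel (hAp.to_le inf_le_left) (pow_mem hx (p ^ k)) h1
      have h3 : (QuotientGroup.mk' C x) ^ p ^ k = 1 := by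
        rw [← map_pow]; exact (QuotientGroup.eq_one_iff _).2 h2
      exact orderOf_eq_one_iff.1 (Nat.eq_one_of_dvd_coprimes (hcop.pow_right k)
        dvd_rfl (orderOf_dvd_of_pow_eq_one h3))
    have hX : B ⊔ C ≤ Subgroup.normalizer ((R ⊔ V : Subgroup G) : Set G) := fun z hz => by
      rw [← cj_eq_self_iff]
      show (R ⊔ V).map _ = _
      rw [Subgroup.map_sup]
      exact congrArg₂ (· ⊔ ·) (cj_eq_self_iff.2 (hnormR z hz)) (cj_eq_self_of_normal z V)
    obtain ⟨M', hVM', hM'U, hM'X, hinf, hsup⟩ := exists_invariant_complement hc hUU hsn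
      (R ⊔ V) le_sup_right (sup_le hRU hc.1.le) hX
    have hnV : ∀ H : Subgroup G, H ≤ Subgroup.normalizer (V : Set G) := fun H => by
      rw [Subgroup.normalizer_eq_top]; exact le_top
    have hM'B : ⁅M', B⁆ ≤ M' :=
      Subgroup.le_normalizer_iff_commutator_le_left.1 (le_trans le_sup_left hM'X)
    have hM'q : ⁅⁅M', B⁆, B⁆ ≤ V := by
      rw [← hinf]
      exact le_inf (le_trans (Subgroup.commutator_mono (Subgroup.commutator_mono hM'U le_rfl) le_rfl)
        (hUBB.trans le_sup_left)) (le_trans (Subgroup.commutator_mono hM'B le_rfl) hM'B)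
    -- every subgroup between `V` and `U` is normalized by `U`
    have hUnorm : ∀ Z : Subgroup G, V ≤ Z → Z ≤ U → U ≤ Subgroup.normalizer (Z : Set G) :=
      fun Z hVZ hZU => Subgroup.le_normalizer_iff_commutator_le_right.2
        (le_trans (Subgroup.commutator_mono le_rfl hZU) (hUU.trans hVZ))
    have hRVU : R ⊔ V ≤ U := sup_le hRU hc.1.le
    have hstep : ⁅U, B⁆ ≤ V ⊔ ⁅R, B⁆ ⊔ ⁅M', B⁆ := by
      have hZU : V ⊔ ⁅R, B⁆ ⊔ ⁅M', B⁆ ≤ U := sup_le (sup_le hc.1.le
        (le_trans (Subgroup.commutator_mono hRU le_rfl) (Subgroup.commutator_le_left _ _)))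
        (hM'B.trans hM'U)
      have hU' := hUnorm _ (le_sup_left.trans le_sup_left) hZU
      rw [← hsup]
      refine commutator_sup_le (hRVU.trans hU') (hM'U.trans hU') ?_ le_sup_right
      exact commutator_sup_le (hRU.trans hU') (hc.1.le.trans hU')
        (le_sup_right.trans le_sup_left)
        (le_trans (Subgroup.commutator_le_left _ _) (le_sup_left.trans le_sup_left))
    refine le_trans (Subgroup.commutator_mono hstep le_rfl) ?_
    exact commutator_sup_le (hnV _) (hnV _)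
      (commutator_sup_le (hnV _) (hnV _) (Subgroup.commutator_le_left _ _)
        (hRB.le.trans bot_le)) hM'q

end CfsgLib.KInf
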