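import Cfsg.Agent.Lib.KInf.Basic

/-!
Behaviour of the K-sequence under injective homomorphisms; invariance of the K-infinity subgroups
under isomorphisms; passage to a subgroup containing the K-sequence.
-/

set_option autoImplicit false
set_option linter.style.haveILetI false

open scoped commutatorElement

namespace CfsgLib.KInf

universe u

variable {P R : Type*} [Group P] [Group R]

theorem centralizer_map_inf {f : P →* R} (hf : Function.Injective f) (B : Subgroup P) :
    cenIn (B.map f) = (cenIn B).map f := by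
  ext y
  constructor
  · rintro ⟨⟨x, hx, rfl⟩, hy⟩
    refine ⟨x, ⟨hx, Subgroup.mem_centralizer_iff.mpr fun b hb => hf ?_⟩, rfl⟩
    simpa using Subgroup.mem_centralizer_iff.mp hy (f b) ⟨b, hb, rfl⟩
  · rintro ⟨x, ⟨hxB, hxC⟩, rfl⟩
    refine ⟨⟨x, hxB, rfl⟩, Subgroup.mem_centralizer_iff.mpr ?_⟩
    rintro _ ⟨b, hb, rfl⟩
    rw [← map_mul, ← map_mul, Subgroup.mem_centralizer_iff.mp hxC b hb]

theorem classTwo_iff (H : Subgroup P) :
    H ∈ Cfsg.classTwoSubgroups P ↔ ⁅H, H⁆ ≤ cenIn H :=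
  ⟨fun h => le_inf (Subgroup.commutator_le_self H) h, fun h => le_trans h inf_le_right⟩

theorem classTwo_map {f : P →* R} (hf : Function.Injective f) (B : Subgroup P) :
    B.map f ∈ Cfsg.classTwoSubgroups R ↔ B ∈ Cfsg.classTwoSubgroups P := by
  rw [classTwo_iff, classTwo_iff, ← Subgroup.map_commutator, centralizer_map_inf hf,
    Subgroup.map_le_map_iff_of_injective hf]

theorem le_normalizer_map_iff {f : P →* R} (hf : Function.Injective f) (B Q : Subgroup P) :
    Q.map f ≤ Subgroup.normalizer (B.map f : Set R) ↔ Q ≤ Subgroup.normalizer (B : Set P) := by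
  rw [Subgroup.le_normalizer_iff_commutator_le_left, Subgroup.le_normalizer_iff_commutator_le_left,
    ← Subgroup.map_commutator, Subgroup.map_le_map_iff_of_injective hf]

theorem upper_map {f : P →* R} (hf : Function.Injective f) (B Q : Subgroup P) :
    B.map f ∈ Cfsg.kUpperStarFamily (Q.map f) ↔ B ∈ Cfsg.kUpperStarFamily Q := by
  refine and_congr (classTwo_map hf B) ?_
  show ⁅B.map f, Q.map f⁆ ≤ cenIn (B.map f) ↔ ⁅B, Q⁆ ≤ cenIn B
  rw [centralizer_map_inf hf, ← Subgroup.map_commutator, Subgroup.map_le_map_iff_of_injective hf]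

theorem lower_map {f : P →* R} (hf : Function.Injective f) (B Q : Subgroup P) :
    B.map f ∈ Cfsg.kLowerStarFamily (Q.map f) ↔ B ∈ Cfsg.kLowerStarFamily Q := by
  have hb : ∀ H : Subgroup P, H.map f = ⊥ ↔ H = ⊥ := fun H =>
    Subgroup.map_eq_bot_iff_of_injective H hf
  constructor
  · rintro ⟨h1, h2, h3⟩
    refine ⟨(classTwo_map hf B).mp h1, (le_normalizer_map_iff hf B Q).mp h2, ?_⟩
    intro A hA hAQ hBA hA1 hA2
    have h := h3 (A.map f) ((classTwo_map hf A).mpr hA) (Subgroup.map_mono hAQ)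
      ((le_normalizer_map_iff hf A B).mpr hBA)
      (by rw [← Subgroup.map_commutator, ← Subgroup.map_commutator, hb, hA1])
      (by
        show ⁅⁅cenIn (B.map f), A.map f⁆, A.map f⁆ = ⊥
        rw [centralizer_map_inf hf, ← Subgroup.map_commutator, ← Subgroup.map_commutator, hb]
        exact hA2)
    change ⁅B.map f, A.map f⁆ ≤ cenIn (B.map f) at h
    rwa [centralizer_map_inf hf, ← Subgroup.map_commutator,
      Subgroup.map_le_map_iff_of_injective hf] at h
  · rintro ⟨h1, h2, h3⟩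
    refine ⟨(classTwo_map hf B).mpr h1, (le_normalizer_map_iff hf B Q).mpr h2, ?_⟩
    intro A' hA hAQ hBA hA1 hA2
    obtain ⟨A, rfl⟩ : ∃ A : Subgroup P, A.map f = A' :=
      ⟨A'.comap f, Subgroup.map_comap_eq_self (le_trans hAQ (Subgroup.map_le_range f Q))⟩
    show ⁅B.map f, A.map f⁆ ≤ cenIn (B.map f)
    rw [centralizer_map_inf hf, ← Subgroup.map_commutator,
      Subgroup.map_le_map_iff_of_injective hf]
    refine h3 A ((classTwo_map hf A).mp hA) ((Subgroup.map_le_map_iff_of_injective hf).mp hAQ)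
      ((le_normalizer_map_iff hf A B).mp hBA) ?_ ?_
    · rwa [← Subgroup.map_commutator, ← Subgroup.map_commutator, hb] at hA1
    · change ⁅⁅cenIn (B.map f), A.map f⁆, A.map f⁆ = ⊥ at hA2
      rwa [centralizer_map_inf hf, ← Subgroup.map_commutator, ← Subgroup.map_commutator, hb] at hA2

theorem sSup_lower_map_le {f : P →* R} (hf : Function.Injective f) {Q : Subgroup P}
    {Q' : Subgroup R} (h : Q' ≤ Q.map f) :
    (sSup (Cfsg.kLowerStarFamily Q)).map f ≤ sSup (Cfsg.kLowerStarFamily Q') := by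
  rw [Subgroup.map_le_iff_le_comap]
  refine sSup_le fun B hB => Subgroup.map_le_iff_le_comap.mp ?_
  exact le_sSup (lower_anti h ((lower_map hf B Q).mpr hB))

theorem sSup_upper_map_le {f : P →* R} (hf : Function.Injective f) {Q : Subgroup P}
    {Q' : Subgroup R} (h : Q' ≤ Q.map f) :
    (sSup (Cfsg.kUpperStarFamily Q)).map f ≤ sSup (Cfsg.kUpperStarFamily Q') := by
  rw [Subgroup.map_le_iff_le_comap]
  refine sSup_le fun B hB => Subgroup.map_le_iff_le_comap.mp ?_
  exact le_sSup (upper_anti h ((upper_map hf B Q).mpr hB))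

theorem sSup_lower_le_map {f : P →* R} (hf : Function.Injective f) {Q : Subgroup P}
    {Q' : Subgroup R} (h : Q.map f ≤ Q') (hr : ∀ B ∈ Cfsg.kLowerStarFamily Q', B ≤ f.range) :
    sSup (Cfsg.kLowerStarFamily Q') ≤ (sSup (Cfsg.kLowerStarFamily Q)).map f := by
  refine sSup_le fun B hB => ?_
  obtain ⟨B, rfl⟩ : ∃ B₀ : Subgroup P, B₀.map f = B :=
    ⟨B.comap f, Subgroup.map_comap_eq_self (hr B hB)⟩
  exact Subgroup.map_mono (le_sSup ((lower_map hf B Q).mp (lower_anti h hB)))

theorem sSup_upper_le_map {f : P →* R} (hf : Function.Injective f) {Q : Subgroup P}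
    {Q' : Subgroup R} (h : Q.map f ≤ Q') (hr : ∀ B ∈ Cfsg.kUpperStarFamily Q', B ≤ f.range) :
    sSup (Cfsg.kUpperStarFamily Q') ≤ (sSup (Cfsg.kUpperStarFamily Q)).map f := by
  refine sSup_le fun B hB => ?_
  obtain ⟨B, rfl⟩ : ∃ B₀ : Subgroup P, B₀.map f = B :=
    ⟨B.comap f, Subgroup.map_comap_eq_self (hr B hB)⟩
  exact Subgroup.map_mono (le_sSup ((upper_map hf B Q).mp (upper_anti h hB)))

/-- If the image of `f` contains all terms of nonnegative index of the K-sequence of `R`, the two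
sequences interlace. -/
theorem interlace {f : P →* R} (hf : Function.Injective f)
    (hr : ∀ n, Cfsg.kSeqEven R n ≤ f.range ∧ Cfsg.kSeqOdd R (n + 1) ≤ f.range) :
    ∀ n, Cfsg.kSeqOdd R (n + 1) ≤ (Cfsg.kSeqOdd P n).map f ∧
      (Cfsg.kSeqEven P n).map f ≤ Cfsg.kSeqEven R (n + 1) ∧
      (Cfsg.kSeqOdd P (n + 1)).map f ≤ Cfsg.kSeqOdd R (n + 1) ∧
      Cfsg.kSeqEven R n ≤ (Cfsg.kSeqEven P n).map f := by
  have evle : ∀ n, Cfsg.kSeqOdd R (n + 1) ≤ (Cfsg.kSeqOdd P n).map f →
      (Cfsg.kSeqEven P n).map f ≤ Cfsg.kSeqEven R (n + 1) :=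
    fun n h => sSup_lower_map_le hf h
  have evge : ∀ n, (Cfsg.kSeqOdd P n).map f ≤ Cfsg.kSeqOdd R n →
      Cfsg.kSeqEven R n ≤ (Cfsg.kSeqEven P n).map f :=
    fun n h => sSup_lower_le_map hf h fun B hB => le_trans (le_sSup hB) (hr n).1
  intro n
  induction n with
  | zero =>
    have h1 : Cfsg.kSeqOdd R 1 ≤ (Cfsg.kSeqOdd P 0).map f := by
      rw [kSeqOdd_zero, ← MonoidHom.range_eq_map]; exact (hr 0).2
    have h2 := evle 0 h1
    have h4 := evge 0 le_top
    exact ⟨h1, h2, sSup_upper_map_le hf h4, h4⟩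
  | succ n ih =>
    obtain ⟨_, ih2, ih3, _⟩ := ih
    have h1 : Cfsg.kSeqOdd R (n + 2) ≤ (Cfsg.kSeqOdd P (n + 1)).map f :=
      sSup_upper_le_map hf ih2 fun B hB => le_trans (le_sSup hB) (hr (n + 1)).2
    have h4 := evge (n + 1) ih3
    exact ⟨h1, evle (n + 1) h1, sSup_upper_map_le hf h4, h4⟩

theorem kInfLower_map_eq {P R : Type u} [Group P] [Group R] [Finite R] {f : P →* R}
    (hf : Function.Injective f)
    (hr : ∀ n, Cfsg.kSeqEven R n ≤ f.range ∧ Cfsg.kSeqOdd R (n + 1) ≤ f.range) :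
    (Cfsg.kInfLower P).map f = Cfsg.kInfLower R ∧ (Cfsg.kInfUpper P).map f = Cfsg.kInfUpper R := by
  haveI : Finite P := Finite.of_injective f hf
  obtain ⟨a, ha⟩ := exists_kInf_eq P
  obtain ⟨b, hb⟩ := exists_kInf_eq R
  obtain ⟨h1, h2, h3, h4⟩ := interlace hf hr (max a b)
  rw [(ha _ (le_max_left a b)).1, (hb (max a b + 1) (by omega)).1] at h2
  rw [(ha _ (le_max_left a b)).1, (hb _ (le_max_right a b)).1] at h4
  rw [(ha _ (le_max_left a b)).2, (hb (max a b + 1) (by omega)).2] at h1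
  rw [(ha (max a b + 1) (by omega)).2, (hb (max a b + 1) (by omega)).2] at h3
  exact ⟨le_antisymm h2 h4, le_antisymm h3 h1⟩

/-- The K-sequence is natural under isomorphisms. -/
theorem kSeqOdd_map_equiv (e : P ≃* R) :
    ∀ n, (Cfsg.kSeqOdd P n).map e.toMonoidHom = Cfsg.kSeqOdd R n := by
  have hf : Function.Injective e.toMonoidHom := e.injective
  have hrange : ∀ B : Subgroup R, B ≤ e.toMonoidHom.range := fun B y _ => ⟨e.symm y, by simp⟩
  intro n
  induction n with
  | zero => exact Subgroup.map_top_of_surjective _ e.surjective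
  | succ n ih =>
    have hev : (Cfsg.kSeqEven P n).map e.toMonoidHom = Cfsg.kSeqEven R n :=
      le_antisymm (sSup_lower_map_le hf ih.ge) (sSup_lower_le_map hf ih.le fun B _ => hrange B)
    exact le_antisymm (sSup_upper_map_le hf hev.ge) (sSup_upper_le_map hf hev.le fun B _ => hrange B)

theorem kSeqEven_map_equiv (e : P ≃* R) (n : ℕ) :
    (Cfsg.kSeqEven P n).map e.toMonoidHom = Cfsg.kSeqEven R n :=
  le_antisymm (sSup_lower_map_le e.injective (kSeqOdd_map_equiv e n).ge)
    (sSup_lower_le_map e.injective (kSeqOdd_map_equiv e n).le fun _ _ y _ => ⟨e.symm y, by simp⟩)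

theorem kInfLower_map_equiv {P R : Type u} [Group P] [Group R] (e : P ≃* R) :
    (Cfsg.kInfLower P).map e.toMonoidHom = Cfsg.kInfLower R := by
  simp only [Cfsg.kInfLower, Subgroup.map_iSup, kSeqEven_map_equiv]

theorem kInfUpper_map_equiv {P R : Type u} [Group P] [Group R] (e : P ≃* R) :
    (Cfsg.kInfUpper P).map e.toMonoidHom = Cfsg.kInfUpper R := by
  rw [Cfsg.kInfUpper, Cfsg.kInfUpper, Subgroup.map_iInf (f := e.toMonoidHom) e.injective]
  exact iInf_congr (kSeqOdd_map_equiv e)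

theorem center_le_centralizer_kInf (P : Type u) [Group P] (H : Subgroup P) :
    Subgroup.center P ≤ Subgroup.centralizer (H : Set P) :=
  Subgroup.center_le_centralizer _

theorem center_le_kInfLower {p : ℕ} [Fact p.Prime] {P : Type u} [Group P] [Finite P]
    (hP : IsPGroup p P) : Subgroup.center P ≤ Cfsg.kInfLower P :=
  le_trans (Subgroup.center_le_centralizer _) (centralizer_kInfLower_le hP)

theorem center_le_kInfUpper {p : ℕ} [Fact p.Prime] {P : Type u} [Group P] [Finite P]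
    (hP : IsPGroup p P) : Subgroup.center P ≤ Cfsg.kInfUpper P :=
  le_trans (Subgroup.center_le_centralizer _) (centralizer_kInfUpper_le hP)

theorem isCharPFunctor_kInfLower (p : ℕ) [Fact p.Prime] :
    Cfsg.IsCharPFunctor.{u} p Cfsg.kInfLower.{u} := by
  refine ⟨fun Q _ _ hQ hnt h => ?_, fun Q R _ _ _ _ φ => kInfLower_map_equiv φ⟩
  haveI := hQ.center_nontrivial
  exact (Subgroup.nontrivial_iff_ne_bot _).mp this (eq_bot_iff.mpr (h ▸ center_le_kInfLower hQ))

theorem isCharPFunctor_kInfUpper (p : ℕ) [Fact p.Prime] :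
    Cfsg.IsCharPFunctor.{u} p Cfsg.kInfUpper.{u} := by
  refine ⟨fun Q _ _ hQ hnt h => ?_, fun Q R _ _ _ _ φ => kInfUpper_map_equiv φ⟩
  haveI := hQ.center_nontrivial
  exact (Subgroup.nontrivial_iff_ne_bot _).mp this (eq_bot_iff.mpr (h ▸ center_le_kInfUpper hQ))

end CfsgLib.KInf
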