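import Cfsg.Agent.Lib.KInf.Functor
import Cfsg.Agent.Lib.KInf.Critical
import Cfsg.Agent.Lib.ConjFunctor.FusionMain
import Cfsg.Agent.Lib.ConjFunctor.PStable

/-!
# The K-infinity subgroups control fusion in p-stable situations
-/

set_option autoImplicit false
set_option linter.style.haveILetI false

namespace CfsgLib.KInf

open CfsgLib.ConjFunctor

universe u

variable {p : ℕ} [Fact p.Prime]

theorem kInf_normal_of_pStab {H : Type u} [Group H] [Finite H] (hcon : Constrained p H)
    (hst : ∀ (V : Subgroup H) [V.Normal], PStab p (H ⧸ V)) (S : Sylow p H) :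
    (Cfsg.inducedFunctor (G := H) Cfsg.kInfLower (S : Subgroup H)).Normal ∧
      (Cfsg.inducedFunctor (G := H) Cfsg.kInfUpper (S : Subgroup H)).Normal := by
  by_contra h
  rw [not_and_or] at h
  obtain ⟨g, -, -, -, -, h3⟩ := exists_engel_element S h
  obtain ⟨U, V, hc, hU, hq, hne⟩ := h3 hcon
  haveI := hc.2.2.1
  exact hne (quadratic_chief_trivial hc hU (hst V) hq)

theorem pStab_sec {G : Type u} [Group G]
    (hst : ∀ (K R : Subgroup G) [hR : (R.subgroupOf K).Normal],
      Cfsg.IsNormalizerPStable p (↥K ⧸ R.subgroupOf K))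
    (H : Type u) [Group H] (hsec : IsSec G H) : PStab p H := by
  obtain ⟨K, R, hR, ⟨e⟩⟩ := hsec.exists_equiv
  haveI := hR
  exact pStab_equiv e (pStab_of_isNormalizerPStable (hst K R))

theorem kInf_controls_fusion {G : Type u} [Group G] [Finite G]
    (hst : ∀ (K R : Subgroup G) [hR : (R.subgroupOf K).Normal],
      Cfsg.IsNormalizerPStable p (↥K ⧸ R.subgroupOf K))
    (H : Type u) [Group H] [Finite H] (hsec : IsSec G H) (S : Sylow p H) :
    Cfsg.ControlsStrongFusion p (Cfsg.inducedFunctor (G := H) Cfsg.kInfLower (S : Subgroup H)) ∧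
      Cfsg.ControlsStrongFusion p
        (Cfsg.inducedFunctor (G := H) Cfsg.kInfUpper (S : Subgroup H)) := by
  have hn : ∀ (H : Type u) [Group H] [Finite H], IsSec G H → Constrained p H → ∀ S : Sylow p H,
      (Cfsg.inducedFunctor (G := H) Cfsg.kInfLower (S : Subgroup H)).Normal ∧
        (Cfsg.inducedFunctor (G := H) Cfsg.kInfUpper (S : Subgroup H)).Normal :=
    fun H _ _ hs hcon S => kInf_normal_of_pStab hcon
      (fun V _ => pStab_sec hst (H ⧸ V) (hs.of_surjective (QuotientGroup.mk'_surjective V))) S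
  constructor
  · refine controlsStrongFusion_of_fused S (fusion_reduce (G := G)
      (𝓦 := ({Cfsg.kInfLower.{u}} : Set (∀ (Q : Type u) [Group Q], Subgroup Q)))
      (fun V hV => ?_) (fun H _ _ hs =>
      fusionInput_of_normal (W := Cfsg.kInfLower.{u}) (Set.mem_singleton _) H fun hcon S => (hn H hs hcon S).1) H hsec S)
    rw [Set.mem_singleton_iff] at hV; rw [hV]; exact isCharPFunctor_kInfLower p
  · refine controlsStrongFusion_of_fused S (fusion_reduce (G := G)
      (𝓦 := ({Cfsg.kInfUpper.{u}} : Set (∀ (Q : Type u) [Group Q], Subgroup Q)))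
      (fun V hV => ?_) (fun H _ _ hs =>
      fusionInput_of_normal (W := Cfsg.kInfUpper.{u}) (Set.mem_singleton _) H fun hcon S => (hn H hs hcon S).2) H hsec S)
    rw [Set.mem_singleton_iff] at hV; rw [hV]; exact isCharPFunctor_kInfUpper p

end CfsgLib.KInf
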