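import Cfsg.Agent.Lib.KInf.Critical
import Cfsg.Agent.Lib.ConjFunctor.FixLocal
import Cfsg.Agent.Lib.ConjFunctor.Induced
import Cfsg.Agent.Lib.KInf.Functor

/-!
# The K-infinity subgroup in the subgroups of a group
-/

set_option autoImplicit false
set_option linter.style.haveILetI false

open scoped commutatorElement

namespace CfsgLib.KInf

open CfsgLib.ConjFunctor

universe u

variable {G : Type u} [Group G] [Finite G] {p : ℕ} [Fact p.Prime]

theorem inf_centralizer_le_induced (P : Subgroup G) (hP : IsPGroup p ↥P) :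
    P ⊓ Subgroup.centralizer (P : Set G) ≤ Cfsg.inducedFunctor Cfsg.kInfLower P := by
  rintro x ⟨hx, hxc⟩
  exact ⟨⟨x, hx⟩, center_le_kInfLower hP (Subgroup.mem_center_iff.2 fun y =>
    Subtype.ext (Subgroup.mem_centralizer_iff.1 hxc y y.2)), rfl⟩

/-- `exists_engel_element` inside a subgroup. -/
theorem exists_engel_element_in {H T : Subgroup G} (hT : IsSyl p T H)
    (hn : ¬ H ≤ Subgroup.normalizer
      ((Cfsg.inducedFunctor Cfsg.kInfLower T : Subgroup G) : Set G)) :
    ∃ g : G, g ∈ T ∧ g ∉ Cfsg.pCoreOf p H ∧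
      (∀ U V : Subgroup ↥H, Cfsg.IsChiefFactor U V → U.map H.subtype ≤ Cfsg.pCoreOf p H →
        Cfsg.iterCommutator (U.map H.subtype) (Subgroup.zpowers g) 4 ≤ V.map H.subtype) ∧
      ⁅⁅Cfsg.pCoreOf p H ⊓ Subgroup.centralizer ((Cfsg.pCoreOf p H : Subgroup G) : Set G),
        Subgroup.zpowers g⁆, Subgroup.zpowers g⁆ = ⊥ := by
  obtain ⟨S, hST, hS⟩ := exists_sylow_map hT
  have hW := isCharPFunctor_kInfLower.{u} p
  have hnn : ¬ (Cfsg.inducedFunctor Cfsg.kInfLower (S : Subgroup H)).Normal := by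
    intro hnor
    refine hn fun x hx => ?_
    rw [hS] at hnor
    have h1 : (⟨x, hx⟩ : H) ∈ Subgroup.normalizer
        ((Cfsg.inducedFunctor Cfsg.kInfLower (T.subgroupOf H) : Subgroup H) : Set H) := by
      haveI := hnor
      rw [Subgroup.normalizer_eq_top]; trivial
    have h2 := (mem_normalizer_map_iff H.subtype_injective).2 h1
    rwa [inducedFunctor_subgroupOf hW hT.le hT.isPGroup] at h2
  obtain ⟨g, hgS, hgP, h4, h2, -⟩ := exists_engel_element S (Or.inl hnn)
  refine ⟨g, hST ▸ ⟨g, hgS, rfl⟩, ?_, fun U V hc hU => ?_, ?_⟩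
  · rintro ⟨y, hy, he⟩
    obtain rfl := Subtype.ext he; exact hgP hy
  · rw [show Subgroup.zpowers ((g : H) : G) = (Subgroup.zpowers g).map H.subtype from
      (MonoidHom.map_zpowers H.subtype g).symm, ← map_iterCommutator]
    exact Subgroup.map_mono (h4 U V hc
      ((Subgroup.map_le_map_iff_of_injective H.subtype_injective).1 hU))
  · refine le_bot_iff.1 ?_
    rw [show Subgroup.zpowers ((g : H) : G) = (Subgroup.zpowers g).map H.subtype from
      (MonoidHom.map_zpowers H.subtype g).symm]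
    refine (Subgroup.commutator_mono (Subgroup.commutator_mono le_coreCenter le_rfl) le_rfl).trans ?_
    rw [← Subgroup.map_commutator, ← Subgroup.map_commutator]
    exact (Subgroup.map_mono h2.le).trans (Subgroup.map_bot _).le

end CfsgLib.KInf
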