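import Cfsg.Agent.Lib.ConjFunctor.QdFacts
import Cfsg.Agent.Lib.KInf.Fusion
import Cfsg.Agent.Lib.PLocal.QdStable

/-!
# `Qd(p)` and the control of fusion by the K-infinity subgroup
-/

set_option autoImplicit false
set_option linter.style.haveILetI false

namespace CfsgLib.KInf

open CfsgLib.ConjFunctor CfsgLib.Qd

universe u

variable {p : ℕ}

/-- The lower K-infinity subgroup of a group of class at most two is the whole group. -/
theorem kInfLower_eq_top_of_classTwo {P : Type u} [Group P]
    (h : ⁅(⊤ : Subgroup P), (⊤ : Subgroup P)⁆ ≤ Subgroup.centralizer ((⊤ : Subgroup P) : Set P)) :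
    Cfsg.kInfLower P = ⊤ := by
  refine top_le_iff.1 (le_trans ?_ (le_iSup (Cfsg.kSeqEven P) 0))
  refine le_sSup ⟨h, fun x _ => by rw [Subgroup.normalizer_eq_top]; trivial, fun A _ _ _ _ _ => ?_⟩
  rw [top_inf_eq]
  exact le_trans (Subgroup.commutator_mono le_rfl le_top) h

theorem pStable_sections_of_no_qd [Fact p.Prime] (hp : p ≠ 2) {G : Type u} [Group G] [Finite G]
    (h : ¬ CfsgLib.PLoc.HasQdSection p G) (K R : Subgroup G) [(R.subgroupOf K).Normal] :
    Cfsg.IsNormalizerPStable p (↥K ⧸ R.subgroupOf K) :=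
  (CfsgLib.PLoc.isNormalizerPStable_or_qd hp _).resolve_right fun hq =>
    h (CfsgLib.PLoc.hasQdSection_of_subgroup K
      (CfsgLib.PLoc.hasQdSection_of_surjective
        (QuotientGroup.mk'_surjective (R.subgroupOf K)) hq))

/-- In a group isomorphic to `Qd(p)` the lower K-infinity subgroup does not control fusion. -/
theorem not_controls_of_equiv_qd [Fact p.Prime] {X : Type u} [Group X] [Finite X]
    (e : X ≃* ↥(Cfsg.qd p)) :
    ¬ ∀ T : Sylow p X, Cfsg.ControlsStrongFusion p
      (Cfsg.inducedFunctor (G := X) Cfsg.kInfLower (T : Subgroup X)) := by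
  intro hall
  haveI : NeZero p := ⟨(Fact.out : p.Prime).ne_zero⟩
  obtain ⟨T₀, hT₀⟩ := qdUpper_isSylow (p := p)
  haveI : Finite ↥(Cfsg.qd p) := Finite.of_equiv X e.toEquiv
  have hs : Function.Surjective e.symm.toMonoidHom := e.symm.surjective
  set T := T₀.mapSurjective hs with hT
  have hTm : (T : Subgroup X) = (qdUpper p).map e.symm.toMonoidHom := by
    rw [hT, Sylow.coe_mapSurjective, hT₀]
  have htop : Cfsg.kInfLower ↥(T : Subgroup X) = ⊤ := by
    refine kInfLower_eq_top_of_classTwo ?_
    rw [← Subgroup.map_le_map_iff_of_injective (T : Subgroup X).subtype_injective,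
      Subgroup.map_commutator, ← MonoidHom.range_eq_map, Subgroup.range_subtype]
    have h1 : ⁅(T : Subgroup X), (T : Subgroup X)⁆ ≤
        Subgroup.centralizer ((T : Subgroup X) : Set X) := by
      rw [hTm, ← Subgroup.map_commutator, ← map_centralizer_equiv']
      exact Subgroup.map_mono qdUpper_commutator_le
    intro x hx
    refine ⟨⟨x, Subgroup.commutator_le_self _ hx⟩, Subgroup.mem_centralizer_iff.2 ?_, rfl⟩
    exact fun y _ => Subtype.ext (Subgroup.mem_centralizer_iff.1 (h1 hx) y y.2)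
  have hK : Cfsg.inducedFunctor Cfsg.kInfLower (T : Subgroup X) = (T : Subgroup X) := by
    show (Cfsg.kInfLower ↥(T : Subgroup X)).map _ = _
    rw [htop, ← MonoidHom.range_eq_map, Subgroup.range_subtype]
  obtain ⟨T', hle, hctl⟩ := hall T
  rw [hK] at hle hctl
  have hTT : (T' : Subgroup X) = (T : Subgroup X) :=
    congrArg Sylow.toSubgroup (Sylow.ext (T.is_maximal' T'.isPGroup' hle))
  -- two conjugate elements of `T`, one of them central
  set w : ↥(Cfsg.qd p) := mk 0 (-1) 1 0 0 0 (by ring)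
  set z := e.symm (tra (1 : ZMod p) 0) with hz
  set g := e.symm w
  have hzT : z ∈ (T : Subgroup X) := hTm ▸ ⟨_, tra_mem_qdUpper 1 0, rfl⟩
  have hgz : g * z * g⁻¹ = e.symm (tra 0 1) := by
    rw [hz, ← map_mul, ← map_inv, ← map_mul, conj_tra]
    refine congrArg e.symm (mk_eq rfl rfl rfl rfl ?_ ?_) <;> ring
  have hA : ({z} : Set X) ⊆ (T' : Subgroup X) := by
    rw [hTT]; exact Set.singleton_subset_iff.2 hzT
  obtain ⟨x, hx, hag⟩ := (hctl {z} hA).2 g (by
    rw [Set.image_singleton, Set.singleton_subset_iff, hgz, hTT, hTm]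
    exact ⟨_, tra_mem_qdUpper 0 1, rfl⟩)
  have h2 : g * z * g⁻¹ = x * z * x⁻¹ := hag z rfl
  obtain ⟨a, b, c, d, u, v, hd, hxe⟩ := exists_eq_mk (e x)
  have hxN : mk a b c d u v hd ∈ Subgroup.normalizer (qdUpper p : Set ↥(Cfsg.qd p)) := by
    have h3 := Subgroup.mem_map_of_mem e.toMonoidHom hx
    rw [hTm, map_normalizer_equiv', Subgroup.map_map] at h3
    rw [← hxe]
    have hid : Subgroup.map (e.toMonoidHom.comp e.symm.toMonoidHom) (qdUpper p) = qdUpper p := by
      convert Subgroup.map_id (qdUpper p)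
      exact MonoidHom.ext fun y => by simp
    rw [hid] at h3
    exact h3
  have hc := eq_zero_of_mem_normalizer_qdUpper hxN
  subst hc
  have h4 := congrArg e (hgz.symm.trans h2)
  rw [map_mul, map_mul, map_inv, hxe, hz, e.apply_symm_apply, e.apply_symm_apply, conj_tra] at h4
  simp only [tra, mk_inj] at h4
  have h5 : (1 : ZMod p) = 0 := by linear_combination h4.2.2.2.2.2
  exact one_ne_zero h5
where
  map_centralizer_equiv' {A : Type} {Y : Type u} [Group Y] [Group A] {e : A ≃* Y} {S : Subgroup A} :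
      (Subgroup.centralizer (S : Set A)).map e.toMonoidHom =
        Subgroup.centralizer ((S.map e.toMonoidHom : Subgroup Y) : Set Y) := by
    ext y
    simp only [Subgroup.mem_map, Subgroup.mem_centralizer_iff, SetLike.mem_coe]
    constructor
    · rintro ⟨x, hx, rfl⟩ _ ⟨a, ha, rfl⟩
      rw [← map_mul, ← map_mul, hx a ha]
    · intro hy
      refine ⟨e.symm y, fun a ha => e.injective ?_, e.apply_symm_apply y⟩
      rw [map_mul, map_mul, e.apply_symm_apply]
      exact hy _ ⟨a, ha, rfl⟩
  map_normalizer_equiv' {A : Type u} {Y : Type} [Group Y] [Group A] {e : A ≃* Y} {S : Subgroup A} :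
      (Subgroup.normalizer (S : Set A)).map e.toMonoidHom =
        Subgroup.normalizer ((S.map e.toMonoidHom : Subgroup Y) : Set Y) :=
    Subgroup.map_equiv_normalizer_eq S e

end CfsgLib.KInf
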