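import Cfsg.Agent.Lib.KInf.Transfer

/-!
# Self-normalizing Sylow subgroups for primes at least five

Glauberman: if `p ≥ 5` and a nontrivial Sylow `p`-subgroup is its own normalizer, then it is not
contained in the derived subgroup.
-/

set_option autoImplicit false

namespace CfsgLib.KInf

universe u

variable {p : ℕ} [Fact p.Prime]

theorem not_le_commutator_of_sylow_selfNormalizing (hp : 5 ≤ p) :
    ∀ (n : ℕ) (G : Type u) [Group G] [Finite G], Nat.card G = n → ∀ P : Sylow p G,
      (P : Subgroup G) ≠ ⊥ → Subgroup.normalizer ((P : Subgroup G) : Set G) = P →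
        ¬ (P : Subgroup G) ≤ commutator G := by
  intro n
  induction n using Nat.strong_induction_on with
  | _ n ih =>
    intro G _ _ hn P hP hN hle
    set K : Subgroup G := Cfsg.inducedFunctor (G := G) Cfsg.kInfLower (P : Subgroup G) with hKdef
    have hKP : K ≤ (P : Subgroup G) := Subgroup.map_subtype_le _
    haveI : Nontrivial ↥(P : Subgroup G) := (Subgroup.nontrivial_iff_ne_bot _).mpr hP
    have hK : K ≠ ⊥ := by
      rw [hKdef, Cfsg.inducedFunctor, ne_eq,
        Subgroup.map_eq_bot_iff_of_injective _ (P : Subgroup G).subtype_injective]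
      exact (isCharPFunctor_kInfLower p).1 _ P.2 inferInstance
    have htr := (kInfLower_transfer hp G CfsgLib.ConjFunctor.isSec_self P).2
    set M : Subgroup G := Subgroup.normalizer (K : Set G) with hM
    change (P : Subgroup G) ⊓ commutator G = (P : Subgroup G) ⊓ ⁅M, M⁆ at htr
    rw [inf_eq_left.mpr hle] at htr
    have hPM' : (P : Subgroup G) ≤ ⁅M, M⁆ := htr.le.trans inf_le_right
    have hPM : (P : Subgroup G) ≤ M := hPM'.trans (Subgroup.commutator_le_self M)
    by_cases hMtop : M = ⊤
    · haveI : K.Normal := Subgroup.normalizer_eq_top_iff.mp hMtop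
      by_cases hKeq : (P : Subgroup G) ≤ K
      · -- `P` is normal, so `G` is a nontrivial `p`-group
        have hPK : (P : Subgroup G) = K := le_antisymm hKeq hKP
        have htop : (P : Subgroup G) = ⊤ := by rw [← hN, hPK]; exact hMtop
        have hnil : Group.IsNilpotent G := by
          have : IsPGroup p (⊤ : Subgroup G) := htop ▸ P.2
          exact (this.of_equiv Subgroup.topEquiv).isNilpotent
        have : Nontrivial G := by
          rcases subsingleton_or_nontrivial G with h | h
          · exact absurd (Subsingleton.elim (P : Subgroup G) ⊥) hP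
          · exact h
        have hlt : commutator G < ⊤ := Group.IsSolvable.commutator_lt_top_of_nontrivial G
        exact hlt.not_ge (htop ▸ hle)
      · -- pass to the quotient
        let π := QuotientGroup.mk' K
        have hπ : Function.Surjective π := QuotientGroup.mk'_surjective K
        let Q : Sylow p (G ⧸ K) := P.mapSurjective hπ
        have hQcomap : (Q : Subgroup (G ⧸ K)).comap π = (P : Subgroup G) := by
          show ((P : Subgroup G).map π).comap π = _
          rw [Subgroup.comap_map_eq, QuotientGroup.ker_mk', sup_eq_left]
          exact hKP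
        refine ih (Nat.card (G ⧸ K)) ?_ (G ⧸ K) rfl Q ?_ ?_ ?_
        · rw [← hn, ← Subgroup.card_eq_card_quotient_mul_card_subgroup K |>.symm]
          exact lt_mul_of_one_lt_right Nat.card_pos (K.one_lt_card_iff_ne_bot.mpr hK)
        · intro hQ
          rw [hQ, MonoidHom.comap_bot, QuotientGroup.ker_mk'] at hQcomap
          exact hKeq hQcomap.ge
        · apply Subgroup.comap_injective hπ
          rw [Subgroup.comap_normalizer_eq_of_surjective (Q : Subgroup (G ⧸ K)) hπ, hQcomap, hN]
        · show (P : Subgroup G).map π ≤ _
          refine (Subgroup.map_mono hle).trans ?_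
          rw [map_commutator_eq]
          exact Subgroup.commutator_mono le_top le_top
    · refine ih (Nat.card M) ?_ M rfl (P.subtype hPM) ?_ ?_ ?_
      · rw [← hn]
        exact lt_of_le_of_ne (Subgroup.card_le_card_group M) (fun h => hMtop (Subgroup.eq_top_of_card_eq M h))
      · intro h
        apply hP
        rw [Sylow.coe_subtype, Subgroup.subgroupOf_eq_bot, disjoint_iff, inf_eq_left.mpr hPM] at h
        exact h
      · rw [Sylow.coe_subtype, ← Subgroup.subgroupOf_normalizer_eq hPM, hN]
      · intro x hx
        rw [Sylow.coe_subtype, Subgroup.mem_subgroupOf] at hx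
        have h1 : (commutator M).map M.subtype = ⁅M, M⁆ := by
          rw [commutator_def, Subgroup.map_commutator, ← MonoidHom.range_eq_map, Subgroup.range_subtype]
        rw [← Subgroup.mem_map_iff_mem M.subtype_injective, h1]
        exact hPM' hx

end CfsgLib.KInf
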